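import Cfsg.Agent.H94.Prod.Def
import Cfsg.Agent.H93.NormalRadical
import Cfsg.Agent.H93.NormalCongruence
import Cfsg.Agent.H94.PPowerIndex

/-!
The product contains every saturated system between `E` and `F` over a subgroup of `R` with hyperfocal subgroup in
`T` whose automorphisms of order prime to `p` of subgroups of `T` lie in `E`.
-/

set_option autoImplicit false
set_option linter.unusedSectionVars false

namespace Cfsg.Agent.H94.Prod

open Cfsg Cfsg.FusionSystem
open Cfsg.Agent.H93 (Mor)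
open Cfsg.Agent.H94.Meet (TCentric)
open Cfsg.Agent.H24.Balance

variable {Ω : Type*} [Group Ω] {S T R V : Subgroup Ω} {F : FusionSystem S} {E : FusionSystem T} {p : ℕ}
  {hRS : R ≤ S} [Finite S] [Fact p.Prime]

theorem le_sys (hS : IsPGroup p S) (hE : E.IsNormalIn F p) (hTV : T ≤ V) (hVR : V ≤ R) {X : FusionSystem V}
    (hXs : X.IsSaturated p) (hXF : X.IsSubsystemOf F) (hEX : E.IsSubsystemOf X)
    (hhyp : X.hyperfocalSubgroup p ≤ T)
    (hres : ∀ W : Subgroup Ω, W ≤ T → ∀ a ∈ X.autGroup W, (orderOf a).Coprime p → a ∈ E.autGroup W) :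
    X.IsSubsystemOf (sys p F E R hRS) := by
  intro P φ hφ
  have hI := hE.1.2.2
  have hVS : V ≤ S := hVR.trans hRS
  have := H96.finite_of_le hVS
  have hVp : IsPGroup p V := hS.to_le hVS
  have hTX : X.StronglyClosed T := ⟨hTV, fun Q hQ ψ hψ x => hI.2.1.2 Q hQ ψ (hXF Q hψ) x⟩
  refine H94.alperin_induction hVp hXs (fun P φ => φ ∈ (sys p F E R hRS).Hom P) ?_ ?_ ?_ hφ
  · exact fun P Q h φ _ hφ' => H96.res_mem _ hφ' h
  · exact fun P Q φ ψ _ _ h1 h2 hh => (sys p F E R hRS).comp_mem h1 h2 hh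
  intro U hU hUc hUr α hα
  have hUR : U ≤ R := hU.1.trans hVR
  have hc : TCentric F T (U ⊓ T) := by
    have hEc : E.IsCentric (U ⊓ T) := by
      by_contra hn
      obtain ⟨ψ, hψ, x, hx, hxn⟩ := H93.exists_opMem_conj hVp hXs hEX hTX hUc hn
      exact H93.not_isRadical_of_opMem_conj hUc hψ hx hxn hUr
    have h := H93.NormalCongruence.tCentric_of_centric hI hEc
    rwa [inf_idem] at h
  have hgen : ∀ a ∈ X.autGroup U, (orderOf a).Coprime p → a ∈ (sys p F E R hRS).autGroup U := by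
    intro a ha hap
    refine Gen.mem_autGroup ⟨hUR, hc, ?_⟩
    obtain ⟨f, hf, hfe⟩ := H93.exists_mor_of_aut hU.1 ha
    obtain ⟨b, hb, hbe⟩ := (mor_inf hTX hf).exists_aut
    have hbp : (orderOf b).Coprime p :=
      coprime_of_intertwine (f := fun x : ↥(U ⊓ T) => (⟨x, x.2.1⟩ : U))
        (fun x y e => Subtype.ext (congrArg (fun z : U => (z : Ω)) e))
        (fun x => Subtype.ext ((hfe _).symm.trans (hbe x).symm)) hap
    obtain ⟨g, hg, hge⟩ := H93.exists_mor_of_aut inf_le_right (hres _ inf_le_right b hb hbp)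
    refine GoodAut.base hc ((H96.mem_autGroup F (hU.1.trans hVS)).2 (hXF U ((H96.mem_autGroup X hU.1).1 ha)))
      (hU.1.trans hVS) (fun x => hhyp ?_) hap ⟨g, hg, fun x hx => ?_⟩
    · exact H94.inv_mul_apply_mem_hyperfocal hU.1
        ⟨⟨a, ha⟩, Subgroup.subset_closure (by rw [Set.mem_setOf_eq, ← Subgroup.orderOf_coe]; exact hap), rfl⟩ x
    · exact (hge ⟨x, x.2, hx⟩).trans ((hbe ⟨x, x.2, hx⟩).trans (hfe x))
  obtain ⟨hA, -⟩ := H94.fullyNormalized_spec hVp hXs hU
  obtain ⟨k, hk, b, hb, rfl⟩ := H94.exists_pResidual_mul_of_fullyAutomized hA hα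
  refine (H96.mem_autGroup _ hUR).1 (Subgroup.mul_mem _ ?_
    (H96.autInducedBy_le_autGroup _ hUR (H93.autInducedBy_mono hVR U hb)))
  obtain ⟨κ, hκ, rfl⟩ := hk
  clear hα
  induction hκ using Subgroup.closure_induction with
  | mem a ha => exact hgen a a.2 (by rw [Subgroup.orderOf_coe]; exact ha)
  | one => exact one_mem _
  | mul a b _ _ iha ihb => exact mul_mem iha ihb
  | inv a _ ih => exact inv_mem ih

end Cfsg.Agent.H94.Prod
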