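import Cfsg.Agent.H24.Balance.Core.Decomp
import Cfsg.Agent.H24.Balance.Core

/-!
The product of a normal subsystem `E` over `T` with a subgroup `R` containing `T`: the system over `R` generated by
conjugations by `R` and by the automorphisms of order prime to `p`, congruent modulo `T`, which act in `E` on a
centric part in `T`.
-/

set_option autoImplicit false
set_option linter.unusedSectionVars false

namespace Cfsg.Agent.H94.Prod

open Cfsg Cfsg.FusionSystem
open Cfsg.Agent.H93 (Mor)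
open Cfsg.Agent.H94.Meet (TCentric exists_conjAut)
open Cfsg.Agent.H24.Balance

variable {Ω : Type*} [Group Ω] {S T R U P P' : Subgroup Ω} {F : FusionSystem S} {E : FusionSystem T} {p : ℕ}

/-- The generating automorphisms. -/
def Gen (p : ℕ) (F : FusionSystem S) (E : FusionSystem T) (R U : Subgroup Ω) (a : MulAut U) : Prop :=
  U ≤ R ∧ TCentric F T (U ⊓ T) ∧ GoodAut p F E U a

/-- A system over `R` containing the generators. -/
def Closed (p : ℕ) (F : FusionSystem S) (E : FusionSystem T) (X : FusionSystem R) : Prop :=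
  ∀ (U : Subgroup Ω) (a : MulAut U), Gen p F E R U a → U.subtype.comp a.toMonoidHom ∈ X.Hom U

/-- The product system. -/
def sys (p : ℕ) (F : FusionSystem S) (E : FusionSystem T) (R : Subgroup Ω) (hRS : R ≤ S) : FusionSystem R where
  Hom P := {φ | φ ∈ F.Hom P ∧ P ≤ R ∧ (∀ x, φ x ∈ R) ∧ ∀ X : FusionSystem R, Closed p F E X → φ ∈ X.Hom P}
  le_of_mem := fun h => ⟨h.2.1, h.2.2.1⟩
  injective_of_mem := fun h => F.injective_of_mem h.1
  conj_mem := fun {P g} hP hg => ⟨F.conj_mem (hP.trans hRS) (hRS hg), hP,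
    fun x => R.mul_mem (R.mul_mem hg (hP x.2)) (R.inv_mem hg), fun X _ => X.conj_mem hP hg⟩
  comp_mem := fun {P Q φ ψ} hφ hψ h => ⟨F.comp_mem hφ.1 hψ.1 h, hφ.2.1, fun x => hψ.2.2.1 _,
    fun X hX => X.comp_mem (hφ.2.2.2 X hX) (hψ.2.2.2 X hX) h⟩
  inv_mem := fun {P φ} hφ => by
    obtain ⟨ψ, hψ, he⟩ := F.inv_mem hφ.1
    refine ⟨ψ, ⟨hψ, ?_, fun y => ?_, fun X hX => ?_⟩, he⟩
    · rintro _ ⟨x, rfl⟩
      exact hφ.2.2.1 x
    · obtain ⟨y, x, rfl⟩ := y
      exact (congrArg (· ∈ R) (he x)).mpr (hφ.2.1 x.2)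
    · obtain ⟨ψ', hψ', he'⟩ := X.inv_mem (hφ.2.2.2 X hX)
      rwa [show ψ = ψ' from MonoidHom.ext fun y => by
        obtain ⟨y, x, rfl⟩ := y
        exact (he x).trans (he' x).symm]

variable {hRS : R ≤ S}

theorem isSubsystemOf : (sys p F E R hRS).IsSubsystemOf F := fun _ _ hφ => hφ.1

theorem mor_toF {f : Ω → Ω} (h : Mor (sys p F E R hRS) P P' f) : Mor F P P' f := by
  obtain ⟨φ, hφ, hr, hv⟩ := h
  exact ⟨φ, hφ.1, hr, hv⟩

theorem Gen.le {a : MulAut U} (h : Gen p F E R U a) : U ≤ R := h.1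

theorem Gen.base {a : MulAut U} (h : Gen p F E R U a) :
    a ∈ F.autGroup U ∧ CongT T U a ∧ (orderOf a).Coprime p ∧ InE E U a := by
  obtain ⟨-, hc, hg⟩ := h
  cases hg with
  | base _ haF _ hac hap hin => exact ⟨haF, hac, hap, hin⟩
  | step hc' _ _ _ _ _ => exact absurd hc hc'

theorem Gen.mem_autGroup {a : MulAut U} (h : Gen p F E R U a) : a ∈ (sys p F E R hRS).autGroup U := by
  rw [H96.mem_autGroup _ h.le]
  refine ⟨(H96.mem_autGroup F (h.le.trans hRS)).1 h.base.1, h.le, fun x => h.le (a x).2, fun X hX => hX U a h⟩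

/-- A system containing the generators contains the product. -/
theorem sys_le {X : FusionSystem R} (hX : Closed p F E X) : sys p F E R hRS ≤ X := fun _ _ hφ => hφ.2.2.2 X hX

/-- Induction along the generation. -/
theorem sys_induction {Φ : Subgroup Ω → Subgroup Ω → (Ω → Ω) → Prop}
    (congr : ∀ P P' f f', (∀ x ∈ P, f x = f' x) → Φ P P' f → Φ P P' f')
    (conj : ∀ P P' r, r ∈ R → Mor (sys p F E R hRS) P P' (fun x => r * x * r⁻¹) → Φ P P' (fun x => r * x * r⁻¹))
    (gen : ∀ (U : Subgroup Ω) (a : MulAut U) (P P' : Subgroup Ω) (f : Ω → Ω), Gen p F E R U a → P ≤ U → (∀ x : U, f x = ((a x : U) : Ω)) →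
      Mor (sys p F E R hRS) U U f → Mor (sys p F E R hRS) P P' f → Φ P P' f)
    (comp : ∀ P P' P'' f f', Mor (sys p F E R hRS) P P' f → Mor (sys p F E R hRS) P' P'' f' → Φ P P' f →
      Φ P' P'' f' → Φ P P'' (fun x => f' (f x)))
    (inv : ∀ P P' f f', Mor (sys p F E R hRS) P P' f → Mor (sys p F E R hRS) P' P f' → (∀ x ∈ P, f' (f x) = x) →
      Φ P P' f → Φ P' P f') :
    ∀ P P' f, Mor (sys p F E R hRS) P P' f → Φ P P' f := by
  let D := sys p F E R hRS
  let X : FusionSystem R :=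
    { Hom := fun Q => {φ | φ ∈ D.Hom Q ∧ ∀ P P' f, P ≤ Q → (∀ x : Q, φ x = f x) → Mor D P P' f → Φ P P' f}
      le_of_mem := fun h => D.le_of_mem h.1
      injective_of_mem := fun h => D.injective_of_mem h.1
      conj_mem := by
        intro Q g hQ hg
        refine ⟨D.conj_mem hQ hg, fun P P' f hPQ hf hfP => ?_⟩
        have e : ∀ x ∈ P, g * x * g⁻¹ = f x := fun x hx => hf ⟨x, hPQ hx⟩
        exact congr P P' _ f e (conj P P' g hg (hfP.congr fun x hx => (e x hx).symm))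
      comp_mem := by
        intro Q Q' φ ψ hφ hψ h
        refine ⟨D.comp_mem hφ.1 hψ.1 h, fun P P' f hPQ hf hfP => ?_⟩
        obtain ⟨f₁, hf₁, hf₁e⟩ := H93.exists_mor hφ.1 rfl
        obtain ⟨f₂, hf₂, hf₂e⟩ := H93.exists_mor hψ.1 rfl
        obtain ⟨P₁, -, hfP₁⟩ := hf₁.restrict hPQ
        have hP₁Q' : P₁ ≤ Q' := by
          intro y hy
          obtain ⟨x, hx, rfl⟩ := hfP₁.surj hy
          rw [show f₁ x = _ from hf₁e ⟨x, hPQ hx⟩]
          exact h _
        have e : ∀ x ∈ P, f₂ (f₁ x) = f x := by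
          intro x hx
          rw [show f₁ x = _ from hf₁e ⟨x, hPQ hx⟩, show f₂ (φ ⟨x, hPQ hx⟩) = _ from hf₂e ⟨_, h _⟩]
          exact hf ⟨x, hPQ hx⟩
        have hfP₂ : Mor D P₁ P' f₂ := by
          refine hf₂.restrict_eq hP₁Q' (fun y hy => ?_) fun z hz => ?_
          · obtain ⟨x, hx, rfl⟩ := hfP₁.surj hy
            rw [e x hx]; exact hfP.map_mem hx
          · obtain ⟨x, hx, rfl⟩ := hfP.surj hz
            exact ⟨_, hfP₁.map_mem hx, e x hx⟩
        exact congr P P' _ f e (comp P P₁ P' f₁ f₂ hfP₁ hfP₂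
          (hφ.2 P P₁ f₁ hPQ (fun x => (hf₁e x).symm) hfP₁)
          (hψ.2 P₁ P' f₂ hP₁Q' (fun x => (hf₂e x).symm) hfP₂))
      inv_mem := by
        intro Q φ hφ
        obtain ⟨ψ, hψ, he⟩ := D.inv_mem hφ.1
        refine ⟨ψ, ⟨hψ, fun P P' f hPQ hf hfP => ?_⟩, he⟩
        obtain ⟨f₁, hf₁, hf₁e⟩ := H93.exists_mor hφ.1 rfl
        have e : ∀ z ∈ Q, f (f₁ z) = z := by
          intro z hz
          rw [show f₁ z = _ from hf₁e ⟨z, hz⟩]
          exact (hf _).symm.trans (he ⟨z, hz⟩)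
        have e' : ∀ x ∈ P, f x ∈ Q ∧ f₁ (f x) = x := by
          intro x hx
          obtain ⟨z, rfl⟩ := hPQ hx
          rw [← hf₁e z, e z z.2]
          exact ⟨z.2, rfl⟩
        have hP'Q : P' ≤ Q := by
          intro y hy
          obtain ⟨x, hx, rfl⟩ := hfP.surj hy
          exact (e' x hx).1
        have hfP' : Mor D P' P f₁ := by
          refine hf₁.restrict_eq hP'Q (fun y hy => ?_) fun x hx => ⟨f x, hfP.map_mem hx, (e' x hx).2⟩
          obtain ⟨x, hx, rfl⟩ := hfP.surj hy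
          rw [(e' x hx).2]; exact hx
        exact inv P' P f₁ f hfP' hfP (fun y hy => e y (hP'Q hy))
          (hφ.2 P' P f₁ hP'Q (fun x => (hf₁e x).symm) hfP') }
  have hle : D ≤ X := sys_le fun U a ha => by
    refine ⟨(H96.mem_autGroup D ha.le).1 ha.mem_autGroup, fun P P' f hPU hf hfP => ?_⟩
    refine gen U a P P' f ha hPU (fun x => (hf x).symm) ⟨_, (H96.mem_autGroup D ha.le).1 ha.mem_autGroup,
      le_antisymm ?_ fun y hy => ?_, hf⟩ hfP
    · rintro _ ⟨x, rfl⟩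
      exact (a x).2
    · exact ⟨a.symm ⟨y, hy⟩, congrArg Subtype.val (a.apply_symm_apply _)⟩
  intro P P' f h
  obtain ⟨φ, hφ, hr, hv⟩ := id h
  exact (hle P hφ).2 P P' f le_rfl hv h

theorem stronglyClosed (hI : E.IsInvariantIn F) (hTR : T ≤ R) : (sys p F E R hRS).StronglyClosed T :=
  ⟨hTR, fun Q hQ φ hφ x => hI.2.1.2 Q hQ φ hφ.1 x⟩

variable [Finite S] [Fact p.Prime]

/-- Every map of the product is congruent to a conjugation by an element of `R`, up to which it lies in `E`. -/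
theorem dec (hI : E.IsInvariantIn F) {f : Ω → Ω} (h : Mor (sys p F E R hRS) P P' f) : Core.Dec E R P f := by
  refine sys_induction (Φ := fun P _ f => Core.Dec E R P f) (fun _ _ _ _ e h => h.congr e) ?_ ?_ ?_ ?_ P P' f h
  · intro P P' r hr _
    refine ⟨r, hr, fun y _ => by rw [inv_mul_cancel]; exact T.one_mem, P ⊓ T, (Mor.id E inf_le_right).congr fun y _ => by group⟩
  · intro U a P P' f ha hPU he _ _
    refine Core.Dec.mono hPU ?_
    obtain ⟨-, hac, -, g, hg, hge⟩ := ha.base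
    refine ⟨1, R.one_mem, fun y hy => ?_, U ⊓ T, hg.congr fun y hy => ?_⟩
    · rw [one_mul, inv_one, mul_one, he ⟨y, hy⟩]
      exact hac ⟨y, hy⟩
    · rw [inv_one, one_mul, mul_one, he ⟨y, hy.1⟩]
      exact hge ⟨y, hy.1⟩ hy.2
  · intro P P' P'' f f' hf _ h h'
    exact Core.Dec.comp hI hRS (mor_toF hf) h h'
  · intro P P' f f' hf _ e h
    exact Core.Dec.inv hI hRS (mor_toF hf) e h

theorem InE.pow {a : MulAut U} (h : InE E U a) (n : ℕ) : InE E U (a ^ n) := by
  obtain ⟨f, hf, hfe⟩ := h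
  induction n with
  | zero => exact ⟨fun x => x, Mor.id E inf_le_right, fun x _ => by simp⟩
  | succ n ih =>
    obtain ⟨g, hg, hge⟩ := ih
    refine ⟨fun x => f (g x), hf.comp hg, fun x hx => ?_⟩
    have hm := hg.map_mem (show (x : Ω) ∈ U ⊓ T from ⟨x.2, hx⟩)
    show f (g x) = _
    rw [pow_succ', MulAut.mul_apply, hge x hx]
    exact hfe ((a ^ n) x) (hge x hx ▸ hm.2)

/-- Automorphisms of order prime to `p` of the product act in `E` on the part in `T`. -/
theorem inE_of_coprime (hS : IsPGroup p S) (hI : E.IsInvariantIn F) {a : MulAut U} (hU : U ≤ R)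
    (ha : a ∈ (sys p F E R hRS).autGroup U) (hap : (orderOf a).Coprime p) : InE E U a := by
  obtain ⟨f, hf, hfe⟩ := H93.exists_mor_of_aut hU ha
  obtain ⟨x, hx, -, V, hV⟩ := dec hI hf
  have hT := hI.2.1
  have hfT := mor_inf hT (mor_toF hf)
  have hpow : ∀ n : ℕ, ∃ (W : Subgroup Ω) (e : Ω → Ω), Mor E (U ⊓ T) W e ∧ ∀ (y : Ω) (hy : y ∈ U ⊓ T),
      (((a ^ n) ⟨y, hy.1⟩ : U) : Ω) = x ^ n * e y * (x ^ n)⁻¹ := by
    intro n
    induction n with
    | zero => exact ⟨U ⊓ T, fun y => y, Mor.id E inf_le_right, fun y hy => by simp⟩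
    | succ n ih =>
      obtain ⟨W, e, he, hee⟩ := ih
      have hxn : x ^ n ∈ S := S.pow_mem (hRS hx) n
      obtain ⟨A, B, hA, -, hAB⟩ := H96.mor_transport (H94.stronglyInvariant_of_invariant hI)
        (Core.mor_conj_base hT (S.inv_mem hxn)) (b := fun z => x ^ n * z * (x ^ n)⁻¹) (fun z _ => by group) hV
      obtain ⟨g, hg, hge⟩ := H93.exists_mor_of_aut (hU.trans hRS) (pow_mem
        ((H96.mem_autGroup F (hU.trans hRS)).2 (isSubsystemOf _ ((H96.mem_autGroup _ hU).1 ha))) n)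
      obtain rfl : W = A := Core.eq_of_mor (F := F) he (hA.comp (mor_inf hT hg)) fun y hy => by
        show e y = (x ^ n)⁻¹ * g y * (x ^ n)⁻¹⁻¹
        rw [show g y = _ from hge ⟨y, hy.1⟩, hee y hy]
        group
      refine ⟨B, _, hAB.comp he, fun y hy => ?_⟩
      show _ = x ^ (n + 1) * ((x ^ n)⁻¹ * (x⁻¹ * f (x ^ n * e y * (x ^ n)⁻¹) * x) * (x ^ n)⁻¹⁻¹) * (x ^ (n + 1))⁻¹
      rw [pow_succ' a, MulAut.mul_apply, ← hee y hy, hfe, pow_succ']
      group
  obtain ⟨k, hk⟩ := hS ⟨x, hRS hx⟩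
  have hk' : x ^ p ^ k = 1 := congrArg Subtype.val hk
  obtain ⟨r, hr⟩ : ∃ r : ℕ, (a ^ p ^ k) ^ r = a :=
    exists_pow_eq_self_of_coprime (Nat.Coprime.pow_left k (Nat.coprime_comm.1 hap))
  rw [← hr]
  refine InE.pow ?_ r
  obtain ⟨W, e, he, hee⟩ := hpow (p ^ k)
  have hev : ∀ (y : Ω) (hy : y ∈ U ⊓ T), e y = (((a ^ p ^ k) ⟨y, hy.1⟩ : U) : Ω) := fun y hy => by
    rw [hee y hy, hk']; simp
  obtain ⟨g, hg, hge⟩ := H93.exists_mor_of_aut (hU.trans hRS)
    (pow_mem ((H96.mem_autGroup F (hU.trans hRS)).2 (isSubsystemOf _ ((H96.mem_autGroup _ hU).1 ha))) (p ^ k))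
  obtain rfl : W = U ⊓ T := Core.eq_of_mor (F := F) he (mor_inf hT hg) fun y hy =>
    (hev y hy).trans (hge ⟨y, hy.1⟩).symm
  exact ⟨e, he, fun y hy => hev y ⟨y.2, hy⟩⟩

/-- Automorphisms of order prime to `p` are congruent. -/
theorem congT_of_coprime (hS : IsPGroup p S) (hI : E.IsInvariantIn F) {a : MulAut U} (hU : U ≤ R)
    (ha : a ∈ (sys p F E R hRS).autGroup U) (hap : (orderOf a).Coprime p) : CongT T U a := by
  obtain ⟨f, hf, hfe⟩ := H93.exists_mor_of_aut hU ha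
  exact Core.congT_of_dec hS hI hRS (hU.trans hRS) hap hfe (dec hI hf)

/-- On centric parts the automorphisms of order prime to `p` are generators. -/
theorem gen_of_coprime (hS : IsPGroup p S) (hI : E.IsInvariantIn F) {a : MulAut U} (hU : U ≤ R)
    (hc : TCentric F T (U ⊓ T)) (ha : a ∈ (sys p F E R hRS).autGroup U) (hap : (orderOf a).Coprime p) :
    Gen p F E R U a :=
  ⟨hU, hc, GoodAut.base hc
    ((H96.mem_autGroup F (hU.trans hRS)).2 (isSubsystemOf _ ((H96.mem_autGroup _ hU).1 ha))) (hU.trans hRS)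
    (congT_of_coprime hS hI hU ha hap) hap (inE_of_coprime hS hI hU ha hap)⟩

/-- The hyperfocal subgroup lies in `T`. -/
theorem hyperfocal_le (hS : IsPGroup p S) (hI : E.IsInvariantIn F) :
    (sys p F E R hRS).hyperfocalSubgroup p ≤ T := by
  refine (Subgroup.closure_le _).2 ?_
  rintro _ ⟨P, α, x, hP, hα, rfl⟩
  suffices h : ∀ α ∈ pResidual p ((sys p F E R hRS).autGroup P), CongT T P (α : MulAut P) from h α hα x
  intro α hα
  induction hα using Subgroup.closure_induction with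
  | mem a ha => exact congT_of_coprime hS hI hP a.2 (by rw [Subgroup.orderOf_coe]; exact ha)
  | one => exact CongT.one
  | mul a b _ _ iha ihb => exact iha.mul ihb
  | inv a _ ih => exact ih.inv

end Cfsg.Agent.H94.Prod
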