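import Cfsg.Agent.H94.Prod.Loc
import Cfsg.Agent.H94.SubgroupFusion

/-!
Saturation of the product at the subgroups whose part in `T` is conjugate to a centric subgroup `W`.
-/

set_option autoImplicit false
set_option linter.unusedSectionVars false

universe u

namespace Cfsg.Agent.H94.Prod

open Cfsg Cfsg.FusionSystem
open Cfsg.Agent.H93 (Mor Reach)
open Cfsg.Agent.H94.Meet (TCentric)
open Cfsg.Agent.H44.BigClimb (SatBig)
open Cfsg.Agent.H24.Balance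

variable {Ω : Type u} [Group Ω] {S T R W : Subgroup Ω} {F : FusionSystem S} {E : FusionSystem T} {p : ℕ}
  {hRS : R ≤ S}

/-- Conjugations of the local group between subgroups containing `W` are maps of the product. -/
def Pullback (hRS : R ≤ S) (Λ : Local p F E R W) : Prop :=
  ∀ (P P₂ : Subgroup Ω) (f : Ω → Ω) (g : Λ.G), W ≤ P → P ≤ normalizerIn R W → P₂ ≤ normalizerIn R W →
    g ∈ Λ.L → Λ.Rel g P f → (∀ x ∈ P, f x ∈ P₂) → (∀ y ∈ P₂, ∃ x ∈ P, f x = y) →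
    Mor (sys p F E R hRS) P P₂ f

/-- The homomorphism into the local group. -/
noncomputable def Local.hom (Λ : Local p F E R W) : ↥(normalizerIn R W) →* Λ.G :=
  MonoidHom.mk' (fun x => Λ.τ x) fun a b => Λ.map_mul a a.2 b b.2

/-- The image of a subgroup of `N_R(W)`. -/
noncomputable def Local.img (Λ : Local p F E R W) (P : Subgroup Ω) : Subgroup Λ.G :=
  (P.subgroupOf (normalizerIn R W)).map Λ.hom

theorem Local.mem_img (Λ : Local p F E R W) {P : Subgroup Ω} (hP : P ≤ normalizerIn R W) {y : Λ.G} :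
    y ∈ Λ.img P ↔ ∃ x ∈ P, Λ.τ x = y := by
  constructor
  · rintro ⟨⟨x, hx⟩, hxP, rfl⟩; exact ⟨x, hxP, rfl⟩
  · rintro ⟨x, hx, rfl⟩; exact ⟨⟨x, hP hx⟩, hx, rfl⟩

theorem Local.img_le (Λ : Local p F E R W) {P : Subgroup Ω} : Λ.img P ≤ Λ.Q := by
  rintro _ ⟨⟨x, hx⟩, -, rfl⟩
  exact (Λ.mem_Q _).2 ⟨x, hx, rfl⟩

variable [Finite S] [Fact p.Prime]

/-- A conjugation of the local group into the Sylow subgroup is a map of the product. -/
theorem exists_pull (hRS : R ≤ S) (Λ : Local p F E R W) (hback : Pullback hRS Λ) {P : Subgroup Ω} (hWP : W ≤ P)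
    (hP : P ≤ normalizerIn R W) {g : Λ.G} (hg : g ∈ Λ.L) (hgQ : ∀ x ∈ P, g * Λ.τ x * g⁻¹ ∈ Λ.Q) :
    ∃ (f : Ω → Ω) (P₂ : Subgroup Ω), Mor (sys p F E R hRS) P P₂ f ∧ P₂ ≤ normalizerIn R W ∧ Λ.Rel g P f := by
  classical
  let N := normalizerIn R W
  let P₂ : Subgroup Ω := (((Λ.img P).map (MulAut.conj g).toMonoidHom).comap Λ.hom).map N.subtype
  let f : Ω → Ω := fun x => if h : ∃ y ∈ N, Λ.τ y = g * Λ.τ x * g⁻¹ then h.choose else x
  have hf : ∀ x ∈ P, f x ∈ N ∧ Λ.τ (f x) = g * Λ.τ x * g⁻¹ := fun x hx => by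
    have h : ∃ y ∈ N, Λ.τ y = g * Λ.τ x * g⁻¹ := (Λ.mem_Q _).1 (hgQ x hx)
    simp only [f, dif_pos h]
    exact h.choose_spec
  refine ⟨f, P₂, hback P P₂ f g hWP hP (Subgroup.map_subtype_le _) hg (fun x hx => (hf x hx).2) ?_ ?_,
    Subgroup.map_subtype_le _, fun x hx => (hf x hx).2⟩
  · intro x hx
    exact ⟨⟨f x, (hf x hx).1⟩, ⟨Λ.τ x, (Λ.mem_img hP).2 ⟨x, hx, rfl⟩, (hf x hx).2.symm⟩, rfl⟩
  · rintro _ ⟨⟨y, hy⟩, ⟨z, hz, hzy⟩, rfl⟩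
    obtain ⟨x, hx, rfl⟩ := (Λ.mem_img hP).1 hz
    exact ⟨x, hx, Λ.injOn _ (hf x hx).1 _ hy ((hf x hx).2.trans hzy)⟩

/-- The classes at a centric level are saturated. -/
theorem sat_level (hS : IsPGroup p S) (hI : E.IsInvariantIn F) (hTR : T ≤ R) (hc : TCentric F T W)
    (hW : (sys p F E R hRS).IsFullyNormalized W) (hov : SatBig (sys p F E R hRS) p (BigT T W))
    (Λ : Local p F E R W) (hback : Pullback hRS Λ) {U : Subgroup Ω} (hU : U ≤ R)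
    (hUW : (sys p F E R hRS).IsConj W (U ⊓ T)) :
    ∃ Y, (sys p F E R hRS).IsConj U Y ∧ (sys p F E R hRS).IsFullyAutomized p Y ∧
      (sys p F E R hRS).IsReceptive Y := by
  classical
  obtain ⟨D, hD⟩ : ∃ D, D = sys p F E R hRS := ⟨_, rfl⟩
  rw [← hD] at hW hUW ⊢
  have := H96.finite_of_le hRS
  have hTD : D.StronglyClosed T := hD ▸ stronglyClosed hI hTR
  have hN : ∀ {A : Subgroup Ω}, A ≤ R → A ≤ normalizerIn R (A ⊓ T) := fun {A} hA x hx => by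
    have := H96.finite_of_le ((inf_le_left : A ⊓ T ≤ A).trans (hA.trans hRS))
    exact ⟨hA hx, H94.mem_normalizer_of_forall_conj_mem fun y hy =>
      ⟨A.mul_mem (A.mul_mem hx hy.1) (A.inv_mem hx), H93.StronglyClosed.conj_mem hI.2.1 (hRS (hA hx)) hy.2⟩⟩
  -- move the part in `T` to `W`
  obtain ⟨h₀, M₀, hh₀, hM₀, hh₀W⟩ := reach hS hI hTR hc.1 (hD ▸ hW) hov _ (hD ▸ hUW)
  rw [← hD] at hh₀ hh₀W
  obtain ⟨U₁, hU₁M, hk₀⟩ := hh₀.restrict (hN hU)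
  have hU₁N : U₁ ≤ normalizerIn R W := hU₁M.trans hM₀
  have hU₁T : U₁ ⊓ T = W := Core.eq_of_mor (F := D) (mor_inf hTD hk₀) hh₀W fun _ _ => rfl
  -- a fully normalized conjugate in the local group
  obtain ⟨X, hX⟩ : ∃ X, X = fusionSystemOfSubgroup Λ.L Λ.Q Λ.le := ⟨_, rfl⟩
  have hXs : X.IsSaturated p := hX ▸ H94.fusionSystemOfSubgroup_isSaturated Λ.le Λ.sylow
  have hQp : IsPGroup p Λ.Q := by
    obtain ⟨P, hP⟩ := Λ.sylow
    exact (hP ▸ P.isPGroup' : IsPGroup p (Λ.Q.subgroupOf Λ.L)).of_equiv (Subgroup.subgroupOfEquivOfLe Λ.le)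
  obtain ⟨V₂, ⟨φ, hφ, hφr⟩, hV₂⟩ := H93.exists_isFullyNormalized X (Λ.img_le (P := U₁))
  rw [hX] at hφ
  obtain ⟨-, hφQ, g₁, hg₁, hφv⟩ := hφ
  have hWU₁ : W ≤ U₁ := hU₁T ▸ inf_le_left
  obtain ⟨f₁, V, hf₁, hVN, hf₁r⟩ := exists_pull hRS Λ hback hWU₁ hU₁N hg₁ fun x hx => by
    rw [← hφv ⟨Λ.τ x, (Λ.mem_img hU₁N).2 ⟨x, hx, rfl⟩⟩]
    exact hφQ _
  rw [← hD] at hf₁
  have hV₂e : Λ.img V = V₂ := by
    ext y
    rw [Λ.mem_img hVN, ← hφr]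
    constructor
    · rintro ⟨z, hz, rfl⟩
      obtain ⟨x, hx, rfl⟩ := hf₁.surj hz
      exact ⟨⟨Λ.τ x, (Λ.mem_img hU₁N).2 ⟨x, hx, rfl⟩⟩, (hφv _).trans (hf₁r x hx).symm⟩
    · rintro ⟨⟨z, hz⟩, rfl⟩
      obtain ⟨x, hx, rfl⟩ := (Λ.mem_img hU₁N).1 hz
      exact ⟨f₁ x, hf₁.map_mem hx, (hf₁r x hx).trans (hφv ⟨Λ.τ x, hz⟩).symm⟩
  subst hV₂e
  have hVR : V ≤ R := hVN.trans inf_le_left
  have := H96.finite_of_le (hVR.trans hRS)
  have hVT : V ⊓ T = W := by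
    have h1 := mor_inf hTD hf₁
    rw [hU₁T] at h1
    have := H96.finite_of_le ((inf_le_left : V ⊓ T ≤ V).trans (hVR.trans hRS))
    have := H96.finite_of_le (hW.1.trans hRS)
    refine Subgroup.eq_of_le_of_card_ge (fun y hy => ?_) h1.card_eq.le
    obtain ⟨w, hw, rfl⟩ := h1.surj hy
    obtain ⟨w', hw', hw'e⟩ := Λ.norm g₁ hg₁ w hw
    rwa [Λ.injOn (f₁ w) (hVN (hf₁.map_mem (hWU₁ hw))) w' (H93.le_normalizerIn hW.1 hw')
      ((hf₁r w (hWU₁ hw)).trans hw'e.symm)]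
  have hWV : W ≤ V := hVT ▸ inf_le_left
  have hnV : ∀ {r : Ω}, r ∈ R → (∀ x ∈ V, r * x * r⁻¹ ∈ V) → r ∈ normalizerIn R W := fun {r} hr hrV => by
    have := H96.finite_of_le (hW.1.trans hRS)
    refine ⟨hr, H94.mem_normalizer_of_forall_conj_mem fun w hw => hVT.le ⟨hrV w (hWV hw), ?_⟩⟩
    exact H93.StronglyClosed.conj_mem hI.2.1 (hRS hr) (hc.1 hw)
  have hVimg : Λ.img V ≤ Λ.Q := Λ.img_le
  obtain ⟨hA, hrec⟩ := H94.fullyNormalized_spec hQp hXs hV₂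
  refine ⟨V, H93.isConj_trans hk₀.isConj hf₁.isConj, ?_, ?_⟩
  · -- fully automized
    let j : ↥V →* ↥(Λ.img V) := (Λ.hom.comp (Subgroup.inclusion hVN)).codRestrict _
      fun x => (Λ.mem_img hVN).2 ⟨x, x.2, rfl⟩
    have hj : Function.Bijective j := by
      refine ⟨fun a b h => Subtype.ext (Λ.injOn _ (hVN a.2) _ (hVN b.2) (congrArg Subtype.val h)), fun y => ?_⟩
      obtain ⟨x, hx, hxy⟩ := (Λ.mem_img hVN).1 y.2
      exact ⟨⟨x, hx⟩, Subtype.ext hxy⟩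
    let c : MulAut V ≃* MulAut (Λ.img V) := MulAut.congr (MulEquiv.ofBijective j hj)
    have hcv : ∀ (a : MulAut V) (x : V), ((c a (j x) : Λ.img V) : Λ.G) = Λ.τ ((a x : V) : Ω) := fun a x => by
      show ((j (a ((MulEquiv.ofBijective j hj).symm (j x))) : Λ.img V) : Λ.G) = _
      rw [show (MulEquiv.ofBijective j hj).symm (j x) = x from (MulEquiv.ofBijective j hj).symm_apply_apply x]
      rfl
    have hAut : (D.autGroup V).map c.toMonoidHom = X.autGroup (Λ.img V) := by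
      refine le_antisymm ?_ fun b hb => ?_
      · rintro _ ⟨a, ha, rfl⟩
        obtain ⟨f, hf, hfe⟩ := H93.exists_mor_of_aut hVR ha
        obtain ⟨g, hg, hgr⟩ := mor_rel hS hI hTR hc (hD ▸ hW) hov Λ (hD ▸ hf) hVT hVT
        rw [H96.mem_autGroup X hVimg, hX]
        refine ⟨hVimg, fun y => hVimg (c a y).2, g, hg, fun y => ?_⟩
        obtain ⟨x, rfl⟩ := hj.2 y
        show ((c a (j x) : Λ.img V) : Λ.G) = g * Λ.τ x * g⁻¹
        rw [hcv, ← hfe x]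
        exact hgr x x.2
      · refine ⟨c.symm b, ?_, c.apply_symm_apply b⟩
        rw [H96.mem_autGroup X hVimg, hX] at hb
        obtain ⟨-, hbQ, g, hg, hbv⟩ := hb
        obtain ⟨f, P₂, hf, hP₂, hfr⟩ := exists_pull hRS Λ hback hWV hVN hg fun x hx => by
          rw [show Λ.τ x = ((j ⟨x, hx⟩ : Λ.img V) : Λ.G) from rfl, ← hbv]
          exact hbQ _
        rw [← hD] at hf
        have hfa : ∀ x : V, f x = (((c.symm b) x : V) : Ω) := fun x =>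
          Λ.injOn _ (hP₂ (hf.map_mem x.2)) _ (hVN (Subtype.prop _)) (by
            rw [hfr x x.2, ← hcv, MulEquiv.apply_symm_apply]
            exact (hbv (j x)).symm)
        have hfV : Mor D V V f := hf.restrict_eq le_rfl (fun x hx => hfa ⟨x, hx⟩ ▸ Subtype.prop _) fun y hy => by
          obtain ⟨x, hx⟩ := (c.symm b).surjective ⟨y, hy⟩
          exact ⟨x, x.2, (hfa x).trans (congrArg Subtype.val hx)⟩
        obtain ⟨a, ha, hae⟩ := hfV.exists_aut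
        rwa [show c.symm b = a from MulEquiv.ext fun x => Subtype.ext ((hfa x).symm.trans (hae x).symm)]
    have hInd : ∀ a : MulAut V, c a ∈ autInducedBy Λ.Q (Λ.img V) ↔ a ∈ autInducedBy R V := by
      intro a
      rw [H96.mem_autInducedBy, H96.mem_autInducedBy]
      constructor
      · rintro ⟨q, hq, hqe⟩
        obtain ⟨r, hr, rfl⟩ := (Λ.mem_Q q).1 hq
        refine ⟨r, hr.1, fun x => Λ.injOn _ (hVN (a x).2) _ (mul_mem (mul_mem hr (hVN x.2)) (inv_mem hr)) ?_⟩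
        rw [← hcv, Λ.map_conj hr (hVN x.2)]
        exact hqe (j x)
      · rintro ⟨r, hr, hre⟩
        have hrN := hnV hr fun x hx => hre ⟨x, hx⟩ ▸ (a _).2
        refine ⟨Λ.τ r, (Λ.mem_Q _).2 ⟨r, hrN, rfl⟩, fun y => ?_⟩
        obtain ⟨x, rfl⟩ := hj.2 y
        rw [hcv, hre, Λ.map_conj hrN (hVN x.2)]
        rfl
    let e : D.autGroup V ≃* X.autGroup (Λ.img V) :=
      (c.subgroupMap (D.autGroup V)).trans (MulEquiv.subgroupCongr hAut)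
    obtain ⟨P, hP⟩ := hA.2
    refine ⟨hVR, P.mapSurjective (f := e.symm.toMonoidHom) e.symm.surjective, ?_⟩
    ext a
    show a ∈ (P : Subgroup (X.autGroup (Λ.img V))).map e.symm.toMonoidHom ↔ _
    rw [Subgroup.mem_map_equiv, hP, Subgroup.mem_subgroupOf, Subgroup.mem_subgroupOf, MulEquiv.symm_symm]
    exact hInd a
  · -- receptive
    refine ⟨hVR, fun Y φ' hφ' hφ'r => ?_⟩
    obtain ⟨f, hf, hfe⟩ := H93.exists_mor hφ' hφ'r
    have hYR : Y ≤ R := hf.le_left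
    have hYW : D.IsConj W (Y ⊓ T) := H93.isConj_symm (hVT ▸ (mor_inf hTD hf).isConj)
    obtain ⟨h, M, hh, hM, hhW⟩ := reach hS hI hTR hc.1 (hD ▸ hW) hov _ (hD ▸ hYW)
    rw [← hD] at hh hhW
    obtain ⟨Y₁, hY₁M, hk⟩ := hh.restrict (hN hYR)
    have hY₁N : Y₁ ≤ normalizerIn R W := hY₁M.trans hM
    have hY₁T : Y₁ ⊓ T = W := Core.eq_of_mor (F := D) (mor_inf hTD hk) hhW fun _ _ => rfl
    obtain ⟨i, hi, hi1, -⟩ := hk.exists_inv
    obtain ⟨g, hg, hgr⟩ := mor_rel hS hI hTR hc (hD ▸ hW) hov Λ (hD ▸ hf.comp hi) hY₁T hVT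
    have hrel : ∀ y ∈ Y, Λ.τ (f y) = g * Λ.τ (h y) * g⁻¹ := fun y hy => by
      have := hgr (h y) (hk.map_mem hy)
      dsimp only at this
      rwa [hi1 y hy] at this
    let φ₂ : ↥(Λ.img Y₁) →* Λ.G := (MulAut.conj g).toMonoidHom.comp (Λ.img Y₁).subtype
    have hφ₂v : ∀ y, φ₂ y ∈ Λ.img V := fun y => by
      obtain ⟨z, hz, hzy⟩ := (Λ.mem_img hY₁N).1 y.2
      obtain ⟨x, hx, rfl⟩ := hk.surj hz
      refine (Λ.mem_img hVN).2 ⟨f x, hf.map_mem hx, ?_⟩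
      rw [hrel x hx, hzy]
      rfl
    have hφ₂ : φ₂ ∈ X.Hom (Λ.img Y₁) := by
      rw [hX]
      exact ⟨Λ.img_le, fun y => hVimg (hφ₂v y), g, hg, fun y => rfl⟩
    have hφ₂r : φ₂.range = Λ.img V := by
      refine le_antisymm (by rintro _ ⟨y, rfl⟩; exact hφ₂v y) fun y hy => ?_
      obtain ⟨z, hz, rfl⟩ := (Λ.mem_img hVN).1 hy
      obtain ⟨x, hx, rfl⟩ := hf.surj hz
      exact ⟨⟨Λ.τ (h x), (Λ.mem_img hY₁N).2 ⟨h x, hk.map_mem hx, rfl⟩⟩, (hrel x hx).symm⟩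
    obtain ⟨ψ₂, hψ₂, hψ₂e⟩ := hrec.2 _ φ₂ hφ₂ hφ₂r
    rw [hX] at hψ₂
    obtain ⟨-, hψ₂Q, g₂, hg₂, hψ₂v⟩ := hψ₂
    have hagree : ∀ y ∈ Y, g₂ * Λ.τ (h y) * g₂⁻¹ = Λ.τ (f y) := fun y hy => by
      have hm : Λ.τ (h y) ∈ Λ.img Y₁ := (Λ.mem_img hY₁N).2 ⟨h y, hk.map_mem hy, rfl⟩
      rw [← hψ₂v ⟨_, H93.le_extender hφ₂ hm⟩, hψ₂e _ hm, hrel y hy]
      rfl
    have := H96.finite_of_le (hYR.trans hRS)
    have hE₀ : ∀ x ∈ extender R Y φ', x ∈ normalizerIn R (Y ⊓ T) ∧ Λ.τ (h x) ∈ extender Λ.Q (Λ.img Y₁) φ₂ := by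
      intro x hx
      obtain ⟨hxN, r, hr, hre⟩ := H93.mem_extender.1 hx
      have := H96.finite_of_le ((inf_le_left : Y ⊓ T ≤ Y).trans (hYR.trans hRS))
      have hxW : x ∈ normalizerIn R (Y ⊓ T) := ⟨hxN.1, H94.mem_normalizer_of_forall_conj_mem fun y hy =>
        ⟨H93.mem_normalizerIn_conj hxN hy.1, H93.StronglyClosed.conj_mem hI.2.1 (hRS hxN.1) hy.2⟩⟩
      have hhx : h x ∈ normalizerIn R W := hM (hh.map_mem hxW)
      refine ⟨hxW, H93.mem_extender.2 ⟨⟨(Λ.mem_Q _).2 ⟨h x, hhx, rfl⟩, ?_⟩, Λ.τ r, ?_, fun q hq => ?_⟩⟩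
      · refine H94.mem_normalizer_of_forall_conj_mem fun q hq => ?_
        obtain ⟨z, hz, rfl⟩ := (Λ.mem_img hY₁N).1 hq
        obtain ⟨y, hy, rfl⟩ := hk.surj hz
        refine (Λ.mem_img hY₁N).2 ⟨h (x * y * x⁻¹), hk.map_mem (H93.mem_normalizerIn_conj hxN hy), ?_⟩
        rw [hh.map_conj hxW (hN hYR hy), Λ.map_conj hhx (hY₁N (hk.map_mem hy))]
      · have hrN : r ∈ normalizerIn R W := hnV hr fun v hv => by
          obtain ⟨y, hy, rfl⟩ := hf.surj hv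
          have h1 := hre ⟨y, hy⟩ (H93.mem_normalizerIn_conj hxN hy)
          rw [hfe ⟨y, hy⟩, ← h1, ← hfe ⟨_, H93.mem_normalizerIn_conj hxN hy⟩]
          exact hf.map_mem (H93.mem_normalizerIn_conj hxN hy)
        exact (Λ.mem_Q _).2 ⟨r, hrN, rfl⟩
      · obtain ⟨q, hq'⟩ := q
        obtain ⟨z, hz, rfl⟩ := (Λ.mem_img hY₁N).1 hq'
        obtain ⟨y, hy, rfl⟩ := hk.surj hz
        have hxy := H93.mem_normalizerIn_conj hxN hy
        have hrN : r ∈ normalizerIn R W := hnV hr fun v hv => by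
          obtain ⟨u, hu, rfl⟩ := hf.surj hv
          have h1 := hre ⟨u, hu⟩ (H93.mem_normalizerIn_conj hxN hu)
          rw [hfe ⟨u, hu⟩, ← h1, ← hfe ⟨_, H93.mem_normalizerIn_conj hxN hu⟩]
          exact hf.map_mem (H93.mem_normalizerIn_conj hxN hu)
        show g * (Λ.τ (h x) * Λ.τ (h y) * (Λ.τ (h x))⁻¹) * g⁻¹ = Λ.τ r * (g * Λ.τ (h y) * g⁻¹) * (Λ.τ r)⁻¹
        rw [← hrel y hy, ← Λ.map_conj hrN (hVN (hf.map_mem hy)), ← Λ.map_conj hhx (hY₁N (hk.map_mem hy)),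
          ← hh.map_conj hxW (hN hYR hy), ← hrel _ hxy, show f (x * y * x⁻¹) = _ from hfe ⟨_, hxy⟩,
          hre ⟨y, hy⟩ hxy, ← hfe ⟨y, hy⟩]
    obtain ⟨E₁, hE₁, hhE⟩ := hh.restrict (fun x hx => (hE₀ x hx).1 : extender R Y φ' ≤ normalizerIn R (Y ⊓ T))
    have hYE : Y ≤ extender R Y φ' := H93.le_extender hφ'
    have hWE : W ≤ E₁ := fun w hw => by
      obtain ⟨y, hy, rfl⟩ := hk.surj (hY₁T.ge hw).1
      exact hhE.map_mem (hYE hy)
    obtain ⟨f₂, P₂, hf₂, hP₂, hf₂r⟩ := exists_pull hRS Λ hback hWE (hE₁.trans hM) hg₂ fun z hz => by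
      obtain ⟨x, hx, rfl⟩ := hhE.surj hz
      rw [← hψ₂v ⟨_, (hE₀ x hx).2⟩]
      exact hψ₂Q _
    rw [← hD] at hf₂
    obtain ⟨ψ, hψ, -, hψv⟩ := hf₂.comp hhE
    refine ⟨ψ, hψ, fun x hxY hxX => ?_⟩
    rw [hψv, ← hfe ⟨x, hxY⟩]
    refine Λ.injOn _ (hP₂ (hf₂.map_mem (hhE.map_mem hxX))) _ (hVN (hf.map_mem hxY)) ?_
    rw [hf₂r _ (hhE.map_mem hxX), hagree x hxY]

end Cfsg.Agent.H94.Prod
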