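import Cfsg.Agent.H94.Prod.Def

/-!
The data of the group attached to a subgroup `W` of `T` in the product: a group `L` with Sylow subgroup the image
of `N_R(W)` whose automorphisms of order prime to `p` are generators and which realizes the generators at `W`.
-/

set_option autoImplicit false
set_option linter.unusedSectionVars false

universe u

namespace Cfsg.Agent.H94.Prod

open Cfsg Cfsg.FusionSystem

variable {Ω : Type u} [Group Ω] {S T : Subgroup Ω}

/-- The local group at `W`. -/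
structure Local (p : ℕ) (F : FusionSystem S) (E : FusionSystem T) (R W : Subgroup Ω) where
  G : Type u
  [group : Group G]
  [finite : Finite G]
  τ : Ω → G
  Q : Subgroup G
  L : Subgroup G
  map_mul : ∀ x ∈ normalizerIn R W, ∀ y ∈ normalizerIn R W, τ (x * y) = τ x * τ y
  injOn : ∀ x ∈ normalizerIn R W, ∀ y ∈ normalizerIn R W, τ x = τ y → x = y
  mem_Q : ∀ y : G, y ∈ Q ↔ ∃ x ∈ normalizerIn R W, τ x = y
  le : Q ≤ L
  sylow : ∃ P : Sylow p L, (P : Subgroup L) = Q.subgroupOf L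
  norm : ∀ g ∈ L, ∀ w ∈ W, ∃ w' ∈ W, τ w' = g * τ w * g⁻¹
  gens : ∀ (V : Subgroup Ω) (a : MulAut V), W ≤ V → V ≤ normalizerIn R W → Gen p F E R V a →
    (∀ x : V, ((a x : V) : Ω) ∈ W ↔ (x : Ω) ∈ W) →
    ∃ g ∈ L, ∀ x : V, τ ((a x : V) : Ω) = g * τ x * g⁻¹
  back : ∀ V : Subgroup Ω, V ≤ normalizerIn R W → W ≤ V → ∀ g ∈ L, (orderOf g).Coprime p → ∀ a : MulAut V,
    (∀ x : V, τ ((a x : V) : Ω) = g * τ x * g⁻¹) → Gen p F E R V a

attribute [instance] Local.group Local.finite

/-- The map is conjugation by `g` in the local group. -/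
def Local.Rel {p : ℕ} {F : FusionSystem S} {E : FusionSystem T} {R W : Subgroup Ω} (Λ : Local p F E R W)
    (g : Λ.G) (P : Subgroup Ω) (f : Ω → Ω) : Prop :=
  ∀ x ∈ P, Λ.τ (f x) = g * Λ.τ x * g⁻¹

end Cfsg.Agent.H94.Prod
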