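import Cfsg.Agent.H94.Prod.Reach
import Cfsg.Agent.H94.Prod.Setup

/-!
Every map of the product between subgroups with part `W` in `T` is a conjugation in the local group at `W`.
-/

set_option autoImplicit false
set_option linter.unusedSectionVars false

universe u

namespace Cfsg.Agent.H94.Prod

open Cfsg Cfsg.FusionSystem
open Cfsg.Agent.H93 (Mor Reach)
open Cfsg.Agent.H94.Meet (TCentric exists_conjAut)
open Cfsg.Agent.H24.Balance
open Cfsg.Agent.H44.BigClimb (SatBig)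

variable {Ω : Type u} [Group Ω] {S T R W : Subgroup Ω} {F : FusionSystem S} {E : FusionSystem T} {p : ℕ}
  {hRS : R ≤ S} [Finite S] [Fact p.Prime]

theorem Local.map_one (Λ : Local p F E R W) : Λ.τ 1 = 1 := by
  have h := Λ.map_mul 1 (one_mem _) 1 (one_mem _)
  rw [one_mul] at h
  exact mul_eq_left.1 h.symm

theorem Local.map_inv (Λ : Local p F E R W) {x : Ω} (hx : x ∈ normalizerIn R W) : Λ.τ x⁻¹ = (Λ.τ x)⁻¹ := by
  refine eq_inv_of_mul_eq_one_left ?_
  rw [← Λ.map_mul _ (inv_mem hx) _ hx, inv_mul_cancel, Λ.map_one]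

theorem Local.map_conj (Λ : Local p F E R W) {r x : Ω} (hr : r ∈ normalizerIn R W) (hx : x ∈ normalizerIn R W) :
    Λ.τ (r * x * r⁻¹) = Λ.τ r * Λ.τ x * (Λ.τ r)⁻¹ := by
  rw [Λ.map_mul _ (mul_mem hr hx) _ (inv_mem hr), Λ.map_mul _ hr _ hx, Λ.map_inv hr]

theorem Local.tau_mem (Λ : Local p F E R W) {x : Ω} (hx : x ∈ normalizerIn R W) : Λ.τ x ∈ Λ.L :=
  Λ.le ((Λ.mem_Q _).2 ⟨x, hx, rfl⟩)

/-- Maps fixing `W` defined on subgroups with larger part in `T` are conjugations in the local group. -/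
theorem stab_rel (hS : IsPGroup p S) (hI : E.IsInvariantIn F) (hTR : T ≤ R) (hc : TCentric F T W)
    (hW : (sys p F E R hRS).IsFullyNormalized W) (hov : SatBig (sys p F E R hRS) p (BigT T W))
    (Λ : Local p F E R W) {N N₂ : Subgroup Ω} {f : Ω → Ω} (hbig : BigT T W N) (hWN : W ≤ N)
    (hN : N ≤ normalizerIn R W) (hN₂ : N₂ ≤ normalizerIn R W) (hf : Mor (sys p F E R hRS) N N₂ f)
    (hfW : Mor (sys p F E R hRS) W W f) : ∃ g ∈ Λ.L, Λ.Rel g N f := by
  have := H96.finite_of_le hRS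
  refine H44.BigClimb.stab_induction (hS.to_le hRS) hW (bigT_conjStable hI) (bigT_monoIn hRS) hov
    (reach hS hI hTR hc.1 hW hov) (Φ := fun N _ f => ∃ g ∈ Λ.L, Λ.Rel g N f) ?_ ?_ ?_ ?_ ?_ ?_
    N N₂ f hbig hWN hN hN₂ hf hfW
  · intro X X' a b e h
    obtain ⟨g, hg, hgr⟩ := h
    exact ⟨g, hg, fun x hx => by rw [← e x hx]; exact hgr x hx⟩
  · intro A B C a b _ _ _ _ _ ha _ _ _ h h'
    obtain ⟨g, hg, hgr⟩ := h
    obtain ⟨g', hg', hgr'⟩ := h'
    refine ⟨g' * g, mul_mem hg' hg, fun x hx => ?_⟩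
    show Λ.τ (b (a x)) = _
    rw [hgr' _ (ha.map_mem hx), hgr x hx]
    group
  · intro A B a b _ _ _ _ ha _ _ hb e h
    obtain ⟨g, hg, hgr⟩ := h
    refine ⟨g⁻¹, inv_mem hg, fun y hy => ?_⟩
    obtain ⟨x, hx, rfl⟩ := ha.surj hy
    rw [e x hx, hgr x hx]
    group
  · intro X X₂ A A₂ a _ _ hAX _ _ _ _ _ h
    obtain ⟨g, hg, hgr⟩ := h
    exact ⟨g, hg, fun x hx => hgr x (hAX hx)⟩
  · intro A A₂ s _ _ hA _ hs _ _
    exact ⟨Λ.τ s, Λ.tau_mem hs, fun x hx => Λ.map_conj hs (hA hx)⟩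
  · intro A hA hWA hAN α hα hαp a he ha haW
    have hAR : A ≤ R := ha.le_left
    have hgen : Gen p F E R A α := gen_of_coprime hS hI hAR
      (hc.mono (le_inf hWA hc.1) inf_le_right) hα hαp
    obtain ⟨g, hg, hgr⟩ := Λ.gens A α hWA hAN hgen fun x => by rw [← he]; exact ha.mem_iff haW hWA x.2
    exact ⟨g, hg, fun x hx => by rw [he ⟨x, hx⟩]; exact hgr ⟨x, hx⟩⟩

/-- The representatives. -/
theorem exists_reps (hS : IsPGroup p S) (hI : E.IsInvariantIn F) (hTR : T ≤ R) (hWT : W ≤ T)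
    (hW : (sys p F E R hRS).IsFullyNormalized W) (hov : SatBig (sys p F E R hRS) p (BigT T W)) :
    ∃ gs : Subgroup Ω → Ω → Ω, gs W = (fun x => x) ∧ ∀ W', (sys p F E R hRS).IsConj W W' →
      ∃ M, Mor (sys p F E R hRS) (normalizerIn R W') M (gs W') ∧ M ≤ normalizerIn R W ∧
        Mor (sys p F E R hRS) W' W (gs W') := by
  classical
  refine ⟨fun W' => if W' = W then fun x => x else
    if h : (sys p F E R hRS).IsConj W W' then (reach hS hI hTR hWT hW hov W' h).choose else fun x => x,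
    if_pos rfl, fun W' hW' => ?_⟩
  by_cases e : W' = W
  · subst e
    dsimp only
    rw [if_pos rfl]
    exact ⟨_, Mor.id _ inf_le_left, le_rfl, Mor.id _ hW.1⟩
  · dsimp only
    rw [if_neg e, dif_pos hW']
    exact (reach hS hI hTR hWT hW hov W' hW').choose_spec

/-- Maps of the product between subgroups with part `W` in `T` are conjugations in the local group. -/
theorem mor_rel (hS : IsPGroup p S) (hI : E.IsInvariantIn F) (hTR : T ≤ R) (hc : TCentric F T W)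
    (hW : (sys p F E R hRS).IsFullyNormalized W) (hov : SatBig (sys p F E R hRS) p (BigT T W))
    (Λ : Local p F E R W) {P P' : Subgroup Ω} {f : Ω → Ω} (hf : Mor (sys p F E R hRS) P P' f)
    (hP : P ⊓ T = W) (hP' : P' ⊓ T = W) : ∃ g ∈ Λ.L, Λ.Rel g P f := by
  classical
  let D := sys p F E R hRS
  have hTD : D.StronglyClosed T := stronglyClosed hI hTR
  have := H96.finite_of_le hRS
  obtain ⟨gs, hgW, hgs⟩ := exists_reps hS hI hTR hc.1 hW hov
  have hcj : ∀ {A : Subgroup Ω}, D.IsConj W (A ⊓ T) → A ≤ R → A ≤ normalizerIn R (A ⊓ T) := by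
    intro A _ hA x hx
    have := H96.finite_of_le ((inf_le_left : A ⊓ T ≤ A).trans (hA.trans hRS))
    exact ⟨hA hx, H94.mem_normalizer_of_forall_conj_mem fun y hy =>
      ⟨A.mul_mem (A.mul_mem hx hy.1) (A.inv_mem hx), H93.StronglyClosed.conj_mem hI.2.1 (hRS (hA hx)) hy.2⟩⟩
  -- maps on subgroups with larger part in `T`
  have hstep : ∀ (W₁ W₂ U₀ U₁ : Subgroup Ω) (a : Ω → Ω), D.IsConj W W₁ → D.IsConj W W₂ → W₁ ≤ U₀ →
      U₀ ≤ normalizerIn R W₁ → U₁ ≤ normalizerIn R W₂ → BigT T W U₀ → Mor D U₀ U₁ a → Mor D W₁ W₂ a →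
      ∃ g ∈ Λ.L, ∀ x ∈ U₀, Λ.τ (gs W₂ (a x)) = g * Λ.τ (gs W₁ x) * g⁻¹ := by
    intro W₁ W₂ U₀ U₁ a h₁ h₂ hW₁ hU₀ hU₁ hbig ha haW
    obtain ⟨M₁, hg₁, hM₁, hg₁W⟩ := hgs W₁ h₁
    obtain ⟨M₂, hg₂, hM₂, hg₂W⟩ := hgs W₂ h₂
    obtain ⟨V₁, hV₁, hk₁⟩ := hg₁.restrict hU₀
    obtain ⟨V₂, hV₂, hk₂⟩ := hg₂.restrict hU₁
    obtain ⟨i, hi, hi1, -⟩ := hk₁.exists_inv
    have hWV : W ≤ V₁ := fun y hy => by
      obtain ⟨x, hx, rfl⟩ := hg₁W.surj hy
      exact hk₁.map_mem (hW₁ hx)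
    have hiW : Mor D W W₁ i := by
      refine hi.restrict_eq hWV (fun y hy => ?_) fun x hx => ⟨gs W₁ x, hg₁W.map_mem hx, hi1 x (hW₁ hx)⟩
      obtain ⟨x, hx, rfl⟩ := hg₁W.surj hy
      rwa [hi1 x (hW₁ hx)]
    obtain ⟨g, hg, hgr⟩ := stab_rel hS hI hTR hc hW hov Λ
      (bigT_conjStable hI _ _ hk₁.isConj hbig) hWV (hV₁.trans hM₁) (hV₂.trans hM₂) ((hk₂.comp ha).comp hi)
      ((hg₂W.comp haW).comp hiW)
    refine ⟨g, hg, fun x hx => ?_⟩
    have := hgr _ (hk₁.map_mem hx)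
    dsimp only at this
    rwa [hi1 x hx] at this
  have key : ∀ P P' f, Mor D P P' f → ∀ A B, A ≤ P → Mor D A B f → D.IsConj W (A ⊓ T) →
      ∃ g ∈ Λ.L, ∀ x ∈ A, Λ.τ (gs (B ⊓ T) (f x)) = g * Λ.τ (gs (A ⊓ T) x) * g⁻¹ := by
    refine sys_induction (Φ := fun P _ f => ∀ A B, A ≤ P → Mor D A B f → D.IsConj W (A ⊓ T) →
      ∃ g ∈ Λ.L, ∀ x ∈ A, Λ.τ (gs (B ⊓ T) (f x)) = g * Λ.τ (gs (A ⊓ T) x) * g⁻¹) ?_ ?_ ?_ ?_ ?_
    · intro P P' a b e h A B hAP hb hA
      obtain ⟨g, hg, hgr⟩ := h A B hAP (hb.congr fun x hx => (e x (hAP hx)).symm) hA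
      exact ⟨g, hg, fun x hx => by rw [← e x (hAP hx)]; exact hgr x hx⟩
    · intro P P' r hr _ A B _ hA' hA
      have hAR : A ≤ R := hA'.le_left
      have hAT := mor_inf hTD hA'
      have hB : D.IsConj W (B ⊓ T) := H93.isConj_trans hA hAT.isConj
      by_cases hbig : BigT T W (normalizerIn R (A ⊓ T))
      · have hR : Mor D R R (fun x => r * x * r⁻¹) := H93.mor_conj D le_rfl ⟨hr, Subgroup.le_normalizer hr⟩
        obtain ⟨U₁, -, hU⟩ := hR.restrict (inf_le_left : normalizerIn R (A ⊓ T) ≤ R)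
        have hWN : A ⊓ T ≤ normalizerIn R (A ⊓ T) := H93.le_normalizerIn hAT.le_left
        have hU₁ : U₁ ≤ normalizerIn R (B ⊓ T) := fun y hy => by
          obtain ⟨x, hx, rfl⟩ := hU.surj hy
          exact hU.map_mem_normalizerIn hAT hWN hx hx.2
        obtain ⟨g, hg, hgr⟩ := hstep _ _ _ _ _ hA hB hWN le_rfl hU₁ hbig hU hAT
        exact ⟨g, hg, fun x hx => hgr x (hcj hA hAR hx)⟩
      · have hT : A ⊓ T = T := by
          by_contra hne
          have hlt : A ⊓ T < T := lt_of_le_of_ne inf_le_right hne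
          have hTS : T ≤ S := hI.2.1.1
          have := H96.finite_of_le hTS
          refine hbig ?_
          show _ < _
          rw [H93.isConj_card_eq hA]
          refine (H93.card_lt_card_of_lt (H93.lt_inf_normalizer (H93.isPGroup_of_le hS hTS) hlt)
            (inf_le_left.trans hTS)).trans_le ?_
          have := H96.finite_of_le ((inf_le_right : normalizerIn R (A ⊓ T) ⊓ T ≤ T).trans hTS)
          exact Subgroup.card_le_of_le fun x hx => ⟨⟨hTR hx.1, hx.2⟩, hx.1⟩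
        have hTfin := H96.finite_of_le hI.2.1.1
        have hWT : W = T := Subgroup.eq_of_le_of_card_ge hc.1 (by rw [H93.isConj_card_eq hA, hT])
        have hBT : B ⊓ T = T := Subgroup.eq_of_le_of_card_ge inf_le_right (by rw [← hAT.card_eq, hT])
        have hN : ∀ x ∈ R, x ∈ normalizerIn R W := fun x hx =>
          ⟨hx, by rw [hWT]; exact H93.StronglyClosed.le_normalizer hI.2.1 (hRS hx)⟩
        refine ⟨Λ.τ r, Λ.tau_mem (hN r hr), fun x hx => ?_⟩
        rw [show B ⊓ T = W from hBT.trans hWT.symm, show A ⊓ T = W from hT.trans hWT.symm, hgW]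
        exact Λ.map_conj (hN r hr) (hN x (hAR hx))
    · intro U a P P' b ha hPU he hbU _ A B hAP hbA hA
      have hAU : A ≤ U := hAP.trans hPU
      have hUR : U ≤ R := ha.le
      have hUS := hUR.trans hRS
      have := H96.finite_of_le hUS
      have hbAT := mor_inf hTD hbA
      have hbUT := mor_inf hTD hbU
      rcases eq_or_lt_of_le (inf_le_inf_right T hAU : A ⊓ T ≤ U ⊓ T) with e | hlt
      · have hBA : B ⊓ T = A ⊓ T := by
          ext y
          constructor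
          · intro hy
            obtain ⟨x, hx, rfl⟩ := hbAT.surj hy
            exact e ▸ hbUT.map_mem (e ▸ hx)
          · intro hy
            obtain ⟨x, hx, rfl⟩ := hbUT.surj (e ▸ hy)
            exact hbAT.map_mem (e ▸ hx)
        have hWc : D.IsConj W (U ⊓ T) := e ▸ hA
        obtain ⟨M, hg, hM, hgW'⟩ := hgs _ hWc
        obtain ⟨V, hV, hk⟩ := hg.restrict (hcj hWc hUR)
        obtain ⟨a', ha'⟩ := exists_conjAut hk a
        have hgen : Gen p F E R V a' := ⟨hk.le_right, ha.2.1.of_mor hI.2.1 (mor_inf hI.2.1 (mor_toF hk)),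
          ha.2.2.conj hI (mor_toF hk) ha'⟩
        have hWV : W ≤ V := fun y hy => by
          obtain ⟨x, hx, rfl⟩ := hgW'.surj hy
          exact hk.map_mem hx.1
        obtain ⟨g, hgL, hgr⟩ := Λ.gens V a' hWV (hV.trans hM) hgen fun y => by
          obtain ⟨x, hx, hxy⟩ := hk.surj y.2
          obtain ⟨y, hy⟩ := y
          simp only at hxy
          subst hxy
          rw [← ha' ⟨x, hx⟩]
          show gs (U ⊓ T) _ ∈ W ↔ gs (U ⊓ T) x ∈ W
          rw [hk.mem_iff hgW' inf_le_left (a ⟨x, hx⟩).2, hk.mem_iff hgW' inf_le_left hx, ← he]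
          exact hbU.mem_iff hbUT inf_le_left hx
        refine ⟨g, hgL, fun x hx => ?_⟩
        rw [hBA, e, he ⟨x, hAU hx⟩, ha' ⟨x, hAU hx⟩]
        exact hgr _
      · obtain ⟨U₁, hU₁, hU⟩ := hbU.restrict (inf_le_left : U ⊓ Subgroup.normalizer ((A ⊓ T : Subgroup Ω) : Set Ω) ≤ U)
        have hWU : A ⊓ T ≤ U ⊓ Subgroup.normalizer ((A ⊓ T : Subgroup Ω) : Set Ω) :=
          le_inf (inf_le_left.trans hAU) Subgroup.le_normalizer
        have hU₁N : U₁ ≤ normalizerIn R (B ⊓ T) := fun y hy => by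
          obtain ⟨x, hx, rfl⟩ := hU.surj hy
          exact hU.map_mem_normalizerIn hbAT hWU hx hx.2
        have hbig : BigT T W (U ⊓ Subgroup.normalizer ((A ⊓ T : Subgroup Ω) : Set Ω)) := by
          show _ < _
          rw [H93.isConj_card_eq hA]
          have hUT : U ⊓ T ≤ S := inf_le_left.trans hUS
          have := H96.finite_of_le hUT
          refine (H93.card_lt_card_of_lt (H93.lt_inf_normalizer (H93.isPGroup_of_le hS hUT) hlt)
            (inf_le_left.trans hUT)).trans_le ?_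
          have := H96.finite_of_le (S := S)
            (P := U ⊓ Subgroup.normalizer ((A ⊓ T : Subgroup Ω) : Set Ω) ⊓ T) (inf_le_left.trans (inf_le_left.trans hUS))
          exact Subgroup.card_le_of_le fun x hx => ⟨⟨hx.1.1, hx.2⟩, hx.1.2⟩
        obtain ⟨g, hg, hgr⟩ := hstep _ _ _ _ _ hA (H93.isConj_trans hA hbAT.isConj) hWU
          (fun x hx => ⟨hUR hx.1, hx.2⟩) hU₁N hbig hU hbAT
        exact ⟨g, hg, fun x hx => hgr x ⟨hAU hx, (hcj hA (hAU.trans hUR) hx).2⟩⟩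
    · intro P P' P'' a b ha hb h h' A B hAP hab hA
      obtain ⟨C, hC, haA⟩ := ha.restrict hAP
      have hbC : Mor D C B b := by
        refine hb.restrict_eq hC (fun y hy => ?_) fun z hz => ?_
        · obtain ⟨x, hx, rfl⟩ := haA.surj hy; exact hab.map_mem hx
        · obtain ⟨x, hx, rfl⟩ := hab.surj hz; exact ⟨_, haA.map_mem hx, rfl⟩
      obtain ⟨g, hg, hgr⟩ := h A C hAP haA hA
      obtain ⟨g', hg', hgr'⟩ := h' C B hC hbC (H93.isConj_trans hA (mor_inf hTD haA).isConj)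
      refine ⟨g' * g, mul_mem hg' hg, fun x hx => ?_⟩
      show Λ.τ (gs (B ⊓ T) (b (a x))) = _
      rw [hgr' _ (haA.map_mem hx), hgr x hx]
      group
    · intro P P' a b ha hb e h A B hAP hbA hA
      have hB : ∀ y ∈ B, y ∈ P ∧ a y ∈ A := by
        intro y hy
        obtain ⟨x, hx, rfl⟩ := hbA.surj hy
        refine ⟨hb.map_mem (hAP hx), ?_⟩
        obtain ⟨z, hz, rfl⟩ := ha.surj (hAP hx)
        rwa [e z hz]
      have haB : Mor D B A a := by
        refine ha.restrict_eq (fun y hy => (hB y hy).1) (fun y hy => (hB y hy).2) fun x hx => ?_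
        obtain ⟨z, hz, rfl⟩ := ha.surj (hAP hx)
        exact ⟨z, e z hz ▸ hbA.map_mem hx, rfl⟩
      obtain ⟨g, hg, hgr⟩ := h B A (fun y hy => (hB y hy).1) haB
        (H93.isConj_trans hA (mor_inf hTD hbA).isConj)
      refine ⟨g⁻¹, inv_mem hg, fun x hx => ?_⟩
      obtain ⟨z, hz, rfl⟩ := haB.surj hx
      rw [e z (hB z hz).1, hgr z hz]
      group
  obtain ⟨g, hg, hgr⟩ := key P P' f hf P P' le_rfl hf (by rw [hP]; exact H93.isConj_refl D hW.1)
  refine ⟨g, hg, fun x hx => ?_⟩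
  have := hgr x hx
  rwa [hP, hP', hgW] at this

end Cfsg.Agent.H94.Prod
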