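import Cfsg.Agent.H94.Prod.Def
import Cfsg.Agent.H94.NormalizerModel
import Cfsg.Agent.H93.ModelUnique
import Cfsg.Agent.S5090

/-!
The group attached to a fully normalized centric subgroup `W` of `T` and a subgroup `P₀` of its normalizer: inside a
model of the normalizer of `W C_S(W)`, the product of `P₀` with the normal subgroup generated by the congruent
automorphisms of order prime to `p` acting in `E` on `W`.
-/

set_option autoImplicit false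
set_option linter.unusedSectionVars false

universe u

namespace Cfsg.Agent.H94.Prod

open Cfsg Cfsg.FusionSystem
open Cfsg.Agent.H93 (Mor)
open Cfsg.Agent.H94.Meet (TCentric hull le_hull hull_le)
open Cfsg.Agent.H24.Balance

variable {Ω : Type u} [Group Ω] {S T W : Subgroup Ω} {F : FusionSystem S} {E : FusionSystem T} {p : ℕ}
  [Finite S] [Fact p.Prime]

theorem hull_inf (hT : F.StronglyClosed T) (hc : TCentric F T W) : hull S W ⊓ T = W :=
  le_antisymm (fun _ hy => hc.mem_of_hull hT.1 hy.1 hy.2) (le_inf (le_hull S W) hc.1)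

theorem normalizerIn_hull (hT : F.StronglyClosed T) (hc : TCentric F T W) :
    normalizerIn S (hull S W) = normalizerIn S W := by
  refine le_antisymm (fun s hs => ⟨hs.1, ?_⟩) fun s hs => H35.Meet.le_hull_normalizer hs (hc.1.trans hT.1)
  have := H96.finite_of_le (hc.1.trans hT.1)
  refine H94.mem_normalizer_of_forall_conj_mem fun w hw => hc.mem_of_hull hT.1
    (H93.mem_normalizerIn_conj hs (le_hull S W hw)) (H93.StronglyClosed.conj_mem hT hs.1 (hc.1 hw))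

theorem hull_fullyNormalized (hT : F.StronglyClosed T) (hc : TCentric F T W) (hn : F.IsFullyNormalized W) :
    F.IsFullyNormalized (hull S W) := by
  refine ⟨hull_le hn.1, fun H' hH' => ?_⟩
  obtain ⟨φ, hφ, hr⟩ := hH'
  obtain ⟨f, hf, -⟩ := H93.exists_mor hφ hr
  have hW := mor_inf hT hf
  rw [hull_inf hT hc] at hW
  rw [normalizerIn_hull hT hc]
  refine le_trans ?_ (hn.2 _ hW.isConj)
  have := H96.finite_of_le (S := S) (P := normalizerIn S (H' ⊓ T)) inf_le_left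
  refine Subgroup.card_le_of_le fun s hs => ⟨hs.1, ?_⟩
  have := H96.finite_of_le ((inf_le_left : H' ⊓ T ≤ H').trans hf.le_right)
  exact H94.mem_normalizer_of_forall_conj_mem fun w hw =>
    ⟨H93.mem_normalizerIn_conj hs hw.1, H93.StronglyClosed.conj_mem hT hs.1 hw.2⟩

theorem hull_prime (hT : F.StronglyClosed T) (hc : TCentric F T W) (hn : F.IsFullyNormalized W) :
    Prime F T (hull S W) :=
  ⟨hull_fullyNormalized hT hc hn, by rwa [hull_inf hT hc]⟩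

/-- The group. -/
theorem exists_group (hS : IsPGroup p S) (hE : E.IsNormalIn F p) (hc : TCentric F T W)
    (hn : F.IsFullyNormalized W) {P₀ : Subgroup Ω} (hP₀ : P₀ ≤ normalizerIn S W)
    (hTP : normalizerIn T W ≤ P₀) :
    ∃ (G : Type u) (_ : Group G) (_ : Finite G) (θ : Ω → G) (Q L : Subgroup G),
      (∀ x ∈ normalizerIn S W, ∀ y ∈ normalizerIn S W, θ (x * y) = θ x * θ y) ∧
      (∀ x ∈ normalizerIn S W, ∀ y ∈ normalizerIn S W, θ x = θ y → x = y) ∧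
      (∀ y : G, y ∈ Q ↔ ∃ x ∈ P₀, θ x = y) ∧ Q ≤ L ∧
      (∃ P : Sylow p L, (P : Subgroup L) = Q.subgroupOf L) ∧
      (∀ g ∈ L, ∀ w ∈ W, ∃ w' ∈ W, θ w' = g * θ w * g⁻¹) ∧
      (∀ V : Subgroup Ω, V ≤ P₀ → W ≤ V → ∀ (b : MulAut ↥(hull S W ⊔ V)) (β : MulAut ↥(hull S W)),
        b ∈ F.autGroup (hull S W ⊔ V) → (orderOf b).Coprime p → H24.Balance.InH F E (hull S W) β →
        (orderOf β).Coprime p → (∀ y : ↥(hull S W), ((b (Subgroup.inclusion le_sup_left y) :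
          ↥(hull S W ⊔ V)) : Ω) = ((β y : ↥(hull S W)) : Ω)) →
        ∃ g ∈ L, ∀ v ∈ hull S W ⊔ V, ∀ v' : ↥(hull S W ⊔ V), (v' : Ω) = v →
          θ ((b v' : ↥(hull S W ⊔ V)) : Ω) = g * θ v * g⁻¹) ∧
      ∀ V : Subgroup Ω, V ≤ P₀ → W ≤ V → ∀ g ∈ L, (orderOf g).Coprime p → ∀ a : MulAut V,
        (∀ x : V, θ ((a x : V) : Ω) = g * θ x * g⁻¹) → TCentric F T (V ⊓ T) ∧ GoodAut p F E V a := by
  classical
  obtain ⟨-, hF, hI⟩ := id hE.1
  have hT := hI.2.1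
  have hWS : W ≤ S := hn.1
  have := H96.finite_of_le hWS
  obtain ⟨H, hH⟩ : ∃ H, H = hull S W := ⟨_, rfl⟩
  have hHS : H ≤ S := hH ▸ hull_le hWS
  have := H96.finite_of_le hHS
  have hHW : H ⊓ T = W := hH ▸ hull_inf hT hc
  have hNN : normalizerIn S H = normalizerIn S W := hH ▸ normalizerIn_hull hT hc
  have hHn : F.IsFullyNormalized H := hH ▸ hull_fullyNormalized hT hc hn
  have hHc : F.IsCentric H := hH ▸ H24.Meet.hull_isCentric (H94.fullyNormalized_fullyCentralized hS hF hn)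
  have hN : F.IsNormalizerSystem H (H93.normalizerSystem F H hHn.1) := fun P => rfl
  obtain ⟨N, hNdef⟩ : ∃ N, N = H93.normalizerSystem F H hHn.1 := ⟨_, rfl⟩
  rw [← hNdef] at hN
  have := H96.finite_of_le (S := S) (P := normalizerIn S H) inf_le_left
  have hpN : IsPGroup p (normalizerIn S H) := hS.to_le inf_le_left
  obtain ⟨G, hG, ι, hm⟩ := S5090.result p hpN N (H94.isConstrained_normalizerSystem hS hF hHn hHc hN)
  have hHN : H ≤ normalizerIn S H := H93.le_normalizerIn hHS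
  have hHnor : N.IsNormal H := H94.isNormal_normalizerSystem hHS hN
  have hHcN : N.IsCentric H := by
    refine ⟨hHN, fun U hU x hx => ?_⟩
    obtain ⟨φ, hφ, rfl⟩ := hU
    rw [hN H] at hφ
    exact hHc.2 _ ⟨φ, hφ.1, rfl⟩ ⟨hx.1.1, hx.2⟩
  obtain ⟨q₁, -, hq₁s, hq₁, -⟩ := H93.Models.exists_action hpN hHnor hHcN hm
  obtain ⟨hfin, ⟨hinj, hreal⟩, ⟨PG, hPG⟩, -⟩ := hm
  obtain ⟨θ, hθ⟩ : ∃ θ : Ω → G, ∀ (x : Ω) (hx : x ∈ normalizerIn S H), θ x = ι ⟨x, hx⟩ :=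
    ⟨fun x => if hx : x ∈ normalizerIn S H then ι ⟨x, hx⟩ else 1, fun x hx => dif_pos hx⟩
  have hθmul : ∀ x ∈ normalizerIn S H, ∀ y ∈ normalizerIn S H, θ (x * y) = θ x * θ y := fun x hx y hy => by
    rw [hθ x hx, hθ y hy, hθ _ (Subgroup.mul_mem _ hx hy), ← map_mul]; rfl
  have hθinj : ∀ x ∈ normalizerIn S H, ∀ y ∈ normalizerIn S H, θ x = θ y → x = y := fun x hx y hy e => by
    rw [hθ x hx, hθ y hy] at e
    exact congrArg Subtype.val (hinj e)
  have hθinv : ∀ x ∈ normalizerIn S H, θ x⁻¹ = (θ x)⁻¹ := fun x hx => by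
    rw [hθ x hx, hθ _ (Subgroup.inv_mem _ hx), ← map_inv]; rfl
  have hθP : ∀ y : G, y ∈ (PG : Subgroup G) ↔ ∃ x ∈ normalizerIn S H, θ x = y := by
    intro y
    rw [hPG]
    constructor
    · rintro ⟨⟨x, hx⟩, rfl⟩; exact ⟨x, hx, hθ x hx⟩
    · rintro ⟨x, hx, rfl⟩; exact ⟨⟨x, hx⟩, (hθ x hx).symm⟩
  -- conjugations by the group inside the Sylow subgroup are maps of the system
  have hmap : ∀ (V : Subgroup Ω), V ≤ normalizerIn S H → ∀ g : G,
      (∀ x ∈ V, g * θ x * g⁻¹ ∈ (PG : Subgroup G)) →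
      ∃ (f : Ω → Ω) (V' : Subgroup Ω), Mor F V V' f ∧ V' ≤ normalizerIn S H ∧
        ∀ x ∈ V, θ (f x) = g * θ x * g⁻¹ := by
    intro V hV g hg
    have hex : ∀ x : V, ∃ y : normalizerIn S H, ι y = g * θ x * g⁻¹ := fun x => by
      have := hg x x.2
      rw [hPG] at this
      exact this
    choose f hf using hex
    let φ : V →* Ω := (normalizerIn S H).subtype.comp (MonoidHom.mk' f fun a b => hinj (by
      rw [map_mul, hf, hf, hf, Subgroup.coe_mul, hθmul _ (hV a.2) _ (hV b.2)]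
      group))
    have hφN : φ ∈ N.Hom V := (hreal V hV φ fun x => (f x).2).2 ⟨g, fun x => by
      show ι ⟨((f x : normalizerIn S H) : Ω), (f x).2⟩ = _
      rw [show (⟨((f x : normalizerIn S H) : Ω), (f x).2⟩ : normalizerIn S H) = f x from rfl, hf, hθ x (hV x.2)]⟩
    rw [hN V] at hφN
    obtain ⟨g', hg', hg'e⟩ := H93.exists_mor hφN.1 rfl
    refine ⟨g', _, hg', ?_, fun x hx => ?_⟩
    · rintro _ ⟨x, rfl⟩
      exact (f x).2
    · rw [show g' x = φ ⟨x, hx⟩ from hg'e ⟨x, hx⟩]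
      show θ ((f ⟨x, hx⟩ : normalizerIn S H) : Ω) = _
      rw [hθ _ (f ⟨x, hx⟩).2, ← hf ⟨x, hx⟩]
  obtain ⟨qq, hqq⟩ : ∃ qq : G →* MulAut H, qq = (N.autGroup H).subtype.comp q₁ := ⟨_, rfl⟩
  have hq : ∀ (g : G) (x : H), θ ((qq g x : H) : Ω) = g * θ x * g⁻¹ := fun g x => by
    rw [hθ _ (hHN (Subtype.prop _)), hθ _ (hHN x.2), hqq]
    exact (hq₁ g x).symm
  have hqF : ∀ g, qq g ∈ F.autGroup H := fun g => by
    have h := (H96.mem_autGroup N hHN).1 (q₁ g).2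
    rw [hN H] at h
    rw [hqq]
    exact (H96.mem_autGroup F hHS).2 h.1
  have hqs : ∀ (s : Ω) (hs : s ∈ normalizerIn S H) (x : H), ((qq (θ s) x : H) : Ω) = s * x * s⁻¹ := fun s hs x => by
    rw [hqq, hθ s hs, MonoidHom.comp_apply, hq₁s]
    rfl
  obtain ⟨K, -, hKn, hKH, hAK, hidx, hKp⟩ := exists_sylow_normal hS hE
    (show Prime F T H from hH ▸ hull_prime hT hc hn) (show TCentric F T (H ⊓ T) by rw [hHW]; exact hc)
  obtain ⟨M, hM⟩ : ∃ M, M = K.comap qq := ⟨_, rfl⟩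
  have hMn : M.Normal := ⟨fun x hx g => by
    rw [hM, Subgroup.mem_comap] at hx ⊢
    rw [map_mul, map_mul, map_inv]
    exact hKn _ (hqF g) _ hx⟩
  obtain ⟨A, hA⟩ : ∃ A, A = ((normalizerIn T W).subgroupOf (normalizerIn S H)).map ι := ⟨_, rfl⟩
  have hTN : normalizerIn T W ≤ normalizerIn S H := fun t ht => hNN ▸ ⟨hT.1 ht.1, ht.2⟩
  have hAi : ∀ y : G, y ∈ A ↔ ∃ t ∈ normalizerIn T W, θ t = y := by
    intro y
    rw [hA]
    constructor
    · rintro ⟨⟨t, ht⟩, htW, rfl⟩; exact ⟨t, htW, hθ t ht⟩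
    · rintro ⟨t, ht, rfl⟩; exact ⟨⟨t, hTN ht⟩, ht, (hθ t (hTN ht)).symm⟩
  have hAM : A ≤ M := fun y hy => by
    obtain ⟨t, ht, rfl⟩ := (hAi y).1 hy
    rw [hM, Subgroup.mem_comap]
    exact hAK (H96.mem_autInducedBy.2 ⟨t, ht.1, fun x => hqs t (hTN ht) x⟩)
  have hAP : A ≤ (PG : Subgroup G) := fun y hy => by
    obtain ⟨t, ht, rfl⟩ := (hAi y).1 hy
    exact (hθP _).2 ⟨t, hTN ht, rfl⟩
  -- conjugates of elements of `T` in the Sylow subgroup lie in `T`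
  have hclosed : ∀ (g : G) (t : Ω), t ∈ T → t ∈ normalizerIn S H → g * θ t * g⁻¹ ∈ (PG : Subgroup G) →
      ∃ t' ∈ normalizerIn T W, θ t' = g * θ t * g⁻¹ := by
    intro g t htT htN hgP
    obtain ⟨f, V', hf, hV', hfe⟩ := hmap (Subgroup.zpowers t) (Subgroup.zpowers_le.2 htN) g fun x hx => by
      obtain ⟨n, rfl⟩ := Subgroup.mem_zpowers_iff.1 hx
      rw [hθ _ (Subgroup.zpow_mem _ htN n), show (⟨t ^ n, Subgroup.zpow_mem _ htN n⟩ : normalizerIn S H) =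
        ⟨t, htN⟩ ^ n from rfl, map_zpow, ← hθ t htN, ← conj_zpow]
      exact Subgroup.zpow_mem _ hgP n
    obtain ⟨χ, hχ, -, hχv⟩ := id hf
    have hft : f t ∈ T := hχv ⟨t, Subgroup.mem_zpowers t⟩ ▸ H93.StronglyClosed.apply_mem hT hχ _ htT
    have hfN := hV' (hf.map_mem (Subgroup.mem_zpowers t))
    exact ⟨f t, ⟨hft, (hNN ▸ hfN : f t ∈ normalizerIn S W).2⟩, hfe t (Subgroup.mem_zpowers t)⟩
  have hfoc : ∀ x ∈ (PG : Subgroup G), x ∈ M → ∀ g ∈ M, g * x * g⁻¹ ∈ (PG : Subgroup G) →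
      x⁻¹ * (g * x * g⁻¹) ∈ A := by
    intro x hxP hxM g hgM hgP
    obtain ⟨s, hs, rfl⟩ := (hθP x).1 hxP
    rw [hM, Subgroup.mem_comap] at hxM hgM
    have hXA : K ⊓ autInducedBy S H ≤ autInducedBy T H := by
      have hAX : autInducedBy T H ≤ K ⊓ autInducedBy S H := le_inf hAK (H93.autInducedBy_mono hT.1 H)
      have hXp : IsPGroup p ↥(K ⊓ autInducedBy S H) := (H94.isPGroup_autInducedBy (P := H) hS).to_le inf_le_right
      rw [← Subgroup.relIndex_eq_one]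
      have : Finite (MulAut H) := Finite.of_injective (fun e : MulAut H => (e : H → H)) DFunLike.coe_injective
      obtain ⟨n, hn'⟩ := hXp.index ((autInducedBy T H).subgroupOf (K ⊓ autInducedBy S H))
      change (autInducedBy T H).relIndex (K ⊓ autInducedBy S H) = p ^ n at hn'
      rcases Nat.eq_zero_or_pos n with hn0 | hn0
      · rw [hn', hn0, pow_zero]
      · refine absurd ?_ hidx
        rw [← Subgroup.relIndex_mul_relIndex _ _ K hAX inf_le_left, hn']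
        exact (dvd_pow_self p hn0.ne').mul_right _
    obtain ⟨t, ht, hte⟩ := H96.mem_autInducedBy.1 (hXA ⟨hxM, H96.mem_autInducedBy.2 ⟨s, hs.1, hqs s hs⟩⟩)
    have hts : t⁻¹ * s ∈ H := by
      rw [hH]
      refine H35.Meet.centralizerIn_hull_le S W (H93.mem_centralizerIn.2
        ⟨S.mul_mem (S.inv_mem (hT.1 ht)) hs.1, fun y hy => ?_⟩)
      have h1 := (hqs s hs ⟨y, hH ▸ hy⟩).symm.trans (hte ⟨y, hH ▸ hy⟩)
      calc t⁻¹ * s * y * (t⁻¹ * s)⁻¹ = t⁻¹ * (s * y * s⁻¹) * t := by group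
        _ = y := by rw [h1]; group
    have htN : t ∈ normalizerIn S H := by
      have := Subgroup.mul_mem _ hs (Subgroup.inv_mem _ (hHN hts))
      simpa using this
    obtain ⟨z, hz⟩ : ∃ z, z = t⁻¹ * s := ⟨_, rfl⟩
    rw [← hz] at hts
    have hsz : s = t * z := by rw [hz]; group
    have hzN := hHN hts
    have hgz := hq g ⟨z, hts⟩
    obtain ⟨z', hz'⟩ : ∃ z', z' = ((qq g ⟨z, hts⟩ : H) : Ω) := ⟨_, rfl⟩
    rw [← hz'] at hgz
    have hz'N : z' ∈ normalizerIn S H := hHN (hz' ▸ Subtype.prop _)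
    have hzz : z⁻¹ * z' ∈ T := hz' ▸ (hKH _ hgM).congT ⟨z, hts⟩
    have hgt : g * θ t * g⁻¹ ∈ (PG : Subgroup G) := by
      rw [show g * θ t * g⁻¹ = g * θ s * g⁻¹ * (g * θ z * g⁻¹)⁻¹ by rw [hsz, hθmul t htN z hzN]; group, ← hgz]
      exact Subgroup.mul_mem _ hgP (Subgroup.inv_mem _ ((hθP _).2 ⟨z', hz'N, rfl⟩))
    obtain ⟨t', ht', ht'e⟩ := hclosed g t ht htN hgt
    have hm : z⁻¹ * (t⁻¹ * t') * z' ∈ normalizerIn S H :=
      Subgroup.mul_mem _ (Subgroup.mul_mem _ (Subgroup.inv_mem _ hzN)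
        (Subgroup.mul_mem _ (Subgroup.inv_mem _ htN) (hTN ht'))) hz'N
    refine (hAi _).2 ⟨z⁻¹ * (t⁻¹ * t') * z', ⟨?_, (hNN ▸ hm : _ ∈ normalizerIn S W).2⟩, ?_⟩
    · rw [show z⁻¹ * (t⁻¹ * t') * z' = z⁻¹ * (t⁻¹ * t') * z⁻¹⁻¹ * (z⁻¹ * z') by group]
      exact T.mul_mem (H93.StronglyClosed.conj_mem hT (S.inv_mem hzN.1) (T.mul_mem (T.inv_mem ht) ht'.1)) hzz
    · rw [hθmul _ (Subgroup.mul_mem _ (Subgroup.inv_mem _ hzN) (Subgroup.mul_mem _ (Subgroup.inv_mem _ htN)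
        (hTN ht'))) _ hz'N, hθmul _ (Subgroup.inv_mem _ hzN) _ (Subgroup.mul_mem _ (Subgroup.inv_mem _ htN) (hTN ht')),
        hθmul _ (Subgroup.inv_mem _ htN) _ (hTN ht'), hθinv z hzN, hθinv t htN, ht'e, hgz, hsz, hθmul t htN z hzN]
      group
  obtain ⟨K', hK'n, hAK', hK'idx, hK'p⟩ := H35.Meet.exists_normal_with_sylow PG M A hAM hAP
    (fun g y hy hgy => by
      obtain ⟨t, ht, rfl⟩ := (hAi y).1 hy
      obtain ⟨t', ht', ht'e⟩ := hclosed g t ht.1 (hTN ht) hgy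
      exact (hAi _).2 ⟨t', ht', ht'e⟩) hfoc
  obtain ⟨KG, hKG⟩ : ∃ KG, KG = K' ⊓ M := ⟨_, rfl⟩
  have hKGn : KG.Normal := ⟨fun x hx g => by
    rw [hKG] at hx ⊢; exact ⟨hK'n.conj_mem x hx.1 g, hMn.conj_mem x hx.2 g⟩⟩
  have hAKG : A ≤ KG := hKG ▸ le_inf hAK' hAM
  have hKGidx : ¬ p ∣ A.relIndex KG := fun h => hK'idx (h.trans
    ⟨KG.relIndex K', (Subgroup.relIndex_mul_relIndex _ _ _ hAKG (hKG ▸ inf_le_left)).symm⟩)
  have hKGP : ∀ y ∈ KG, y ∈ (PG : Subgroup G) → y ∈ A := by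
    have h1 : KG ⊓ (PG : Subgroup G) ≤ A := by
      rw [← Subgroup.relIndex_eq_one]
      have hXp : IsPGroup p ↥(KG ⊓ (PG : Subgroup G)) := PG.isPGroup'.to_le inf_le_right
      obtain ⟨n, hn'⟩ := hXp.index (A.subgroupOf (KG ⊓ (PG : Subgroup G)))
      change A.relIndex (KG ⊓ (PG : Subgroup G)) = p ^ n at hn'
      rcases Nat.eq_zero_or_pos n with hn0 | hn0
      · rw [hn', hn0, pow_zero]
      · refine absurd ?_ hKGidx
        rw [← Subgroup.relIndex_mul_relIndex _ _ KG (le_inf hAKG hAP) inf_le_left, hn']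
        exact (dvd_pow_self p hn0.ne').mul_right _
    exact fun y hy hy' => h1 ⟨hy, hy'⟩
  obtain ⟨Q, hQ⟩ : ∃ Q, Q = (P₀.subgroupOf (normalizerIn S H)).map ι := ⟨_, rfl⟩
  have hP₀N : P₀ ≤ normalizerIn S H := hNN ▸ hP₀
  have hQi : ∀ y : G, y ∈ Q ↔ ∃ x ∈ P₀, θ x = y := by
    intro y
    rw [hQ]
    constructor
    · rintro ⟨⟨x, hx⟩, hxP, rfl⟩; exact ⟨x, hxP, hθ x hx⟩
    · rintro ⟨x, hx, rfl⟩; exact ⟨⟨x, hP₀N hx⟩, hx, (hθ x (hP₀N hx)).symm⟩
  have hQP : Q ≤ (PG : Subgroup G) := fun y hy => by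
    obtain ⟨x, hx, rfl⟩ := (hQi y).1 hy
    exact (hθP _).2 ⟨x, hP₀N hx, rfl⟩
  have hAQ : A ≤ Q := fun y hy => by
    obtain ⟨t, ht, rfl⟩ := (hAi y).1 hy
    exact (hQi _).2 ⟨t, hTP ht, rfl⟩
  obtain ⟨L, hL⟩ : ∃ L, L = KG ⊔ Q := ⟨_, rfl⟩
  have hQL : Q ≤ L := hL ▸ le_sup_right
  have hKL : KG ≤ L := hL ▸ le_sup_left
  have hKQ : KG ⊓ Q = A := le_antisymm (fun y hy => hKGP y hy.1 (hQP hy.2)) (le_inf hAKG hAQ)
  have hQidx : ¬ p ∣ Q.relIndex L := by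
    have h1 := Subgroup.relIndex_mul_relIndex (KG ⊓ Q) KG L inf_le_left hKL
    have h2 := Subgroup.relIndex_mul_relIndex (KG ⊓ Q) Q L inf_le_right hQL
    rw [hKQ] at h1 h2
    have h3 : KG.relIndex L = A.relIndex Q := by
      rw [hL, Subgroup.relIndex_sup_left, ← hKQ, Subgroup.inf_relIndex_right]
    rw [h3, ← h2, mul_comm] at h1
    have h4 : A.relIndex KG = Q.relIndex L :=
      Nat.eq_of_mul_eq_mul_left (Nat.pos_of_ne_zero Subgroup.index_ne_zero_of_finite) h1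
    rwa [← h4]
  have hQp : IsPGroup p (Q.subgroupOf L) :=
    (PG.isPGroup'.to_le hQP).comap_of_injective _ L.subtype_injective
  have hWN : W ≤ normalizerIn S H := hNN ▸ H93.le_normalizerIn hWS
  have hnorm : ∀ g ∈ L, ∀ w ∈ W, ∃ w' ∈ W, θ w' = g * θ w * g⁻¹ := by
    obtain ⟨WG, hWG⟩ : ∃ WG, WG = (W.subgroupOf (normalizerIn S H)).map ι := ⟨_, rfl⟩
    have hWGi : ∀ y : G, y ∈ WG ↔ ∃ w ∈ W, θ w = y := by
      intro y
      rw [hWG]
      constructor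
      · rintro ⟨⟨x, hx⟩, hxW, rfl⟩; exact ⟨x, hxW, hθ x hx⟩
      · rintro ⟨x, hx, rfl⟩; exact ⟨⟨x, hWN hx⟩, hx, (hθ x (hWN hx)).symm⟩
    have hle : L ≤ Subgroup.normalizer (WG : Set G) := by
      rw [hL]
      refine sup_le (fun g hg => ?_) fun g hg => ?_ <;>
        refine H94.mem_normalizer_of_forall_conj_mem fun y hy => ?_ <;>
        obtain ⟨w, hw, rfl⟩ := (hWGi y).1 hy
      · rw [hKG] at hg
        have hgK : qq g ∈ K := Subgroup.mem_comap.1 (hM ▸ hg.2 : g ∈ K.comap qq)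
        have hwH : w ∈ H := hH ▸ le_hull S W hw
        have hwT : w⁻¹ * ((qq g ⟨w, hwH⟩ : H) : Ω) ∈ T := (hKH _ hgK).congT ⟨w, hwH⟩
        refine (hWGi _).2 ⟨_, ?_, hq g ⟨w, hwH⟩⟩
        rw [← hHW]
        have := T.mul_mem (hc.1 hw) hwT
        rw [mul_inv_cancel_left] at this
        exact ⟨Subtype.prop _, this⟩
      · obtain ⟨x, hx, rfl⟩ := (hQi g).1 hg
        have hx' : x ∈ normalizerIn S W := hP₀ hx
        refine (hWGi _).2 ⟨x * w * x⁻¹, H93.mem_normalizerIn_conj hx' hw, ?_⟩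
        rw [hθmul _ (Subgroup.mul_mem _ (hP₀N hx) (hWN hw)) _ (Subgroup.inv_mem _ (hP₀N hx)),
          hθmul _ (hP₀N hx) _ (hWN hw), hθinv x (hP₀N hx)]
    intro g hg w hw
    exact (hWGi _).1 ((Subgroup.mem_normalizer_iff.1 (hle hg) _).1 ((hWGi _).2 ⟨w, hw, rfl⟩))
  refine ⟨G, hG, hfin, θ, Q, L, hNN ▸ hθmul, hNN ▸ hθinj, hQi, hQL,
    ⟨hQp.toSylow hQidx, IsPGroup.toSylow_coe _ _⟩, hnorm, ?_, ?_⟩
  · -- the lifts
    subst hH
    intro V hVP _ b β hb hbp hβ hβp hbβ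
    obtain ⟨HV, hHV⟩ : ∃ HV, HV = hull S W ⊔ V := ⟨_, rfl⟩
    have hle : hull S W ⊔ V ≤ normalizerIn S (hull S W) := sup_le hHN (hVP.trans hP₀N)
    have hleS : hull S W ⊔ V ≤ S := hle.trans inf_le_left
    obtain ⟨f, hf, hfe⟩ := H93.exists_mor_of_aut hleS hb
    have hfX : ∀ x ∈ hull S W, f x ∈ hull S W := fun x hx => by
      rw [show f x = _ from hfe ⟨x, Subgroup.mem_sup_left hx⟩, show (⟨x, Subgroup.mem_sup_left hx⟩ :
        ↥(hull S W ⊔ V)) = Subgroup.inclusion le_sup_left ⟨x, hx⟩ from rfl, hbβ]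
      exact Subtype.prop _
    obtain ⟨φ, hφ, hφr, hφv⟩ := Core.nmor_of_mor hN le_sup_left hle hle hf hfX
    obtain ⟨g₀, hg₀⟩ := (hreal _ hle φ fun x => hle (hφr.le ⟨x, rfl⟩)).1 hφ
    have hg₀v : ∀ v : ↥(hull S W ⊔ V), θ ((b v : ↥(hull S W ⊔ V)) : Ω) = g₀ * θ v * g₀⁻¹ := fun v => by
      rw [hθ _ (hle v.2), ← hg₀ v, hθ _ (hle (b v).2)]
      exact congrArg ι (Subtype.ext ((hfe v).symm.trans (hφv v).symm))
    have hpow : ∀ (n : ℕ) (v : ↥(hull S W ⊔ V)),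
        θ (((b ^ n) v : ↥(hull S W ⊔ V)) : Ω) = g₀ ^ n * θ v * (g₀ ^ n)⁻¹ := by
      intro n
      induction n with
      | zero => intro v; simp
      | succ n ih => intro v; rw [pow_succ', MulAut.mul_apply, hg₀v, ih, pow_succ']; group
    obtain ⟨e, k, hk, he⟩ := Nat.exists_eq_pow_mul_and_not_dvd (orderOf_pos g₀).ne' p (Fact.out : p.Prime).ne_one
    obtain ⟨r, hr⟩ : ∃ r : ℕ, (b ^ p ^ e) ^ r = b :=
      exists_pow_eq_self_of_coprime (Nat.Coprime.pow_left e (Nat.coprime_comm.1 hbp))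
    obtain ⟨g, hg⟩ : ∃ g, g = g₀ ^ (p ^ e * r) := ⟨_, rfl⟩
    have hgv : ∀ v : ↥(hull S W ⊔ V), θ ((b v : ↥(hull S W ⊔ V)) : Ω) = g * θ v * g⁻¹ := fun v => by
      rw [hg, ← hpow, pow_mul, hr]
    have hgp : (orderOf g).Coprime p := by
      refine Nat.Coprime.coprime_dvd_left (orderOf_dvd_of_pow_eq_one ?_)
        ((Fact.out : p.Prime).coprime_iff_not_dvd.2 hk).symm
      rw [hg, ← pow_mul, show p ^ e * r * k = orderOf g₀ * r by rw [he]; ring, pow_mul, pow_orderOf_eq_one,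
        one_pow]
    have hgM : g ∈ M := by
      rw [hM, Subgroup.mem_comap]
      have : qq g = β := MulEquiv.ext fun y => Subtype.ext (hθinj _ (hHN (Subtype.prop _)) _
        (hHN (Subtype.prop _)) (by rw [hq, ← hbβ]; exact (hgv (Subgroup.inclusion le_sup_left y)).symm))
      rw [this]
      exact hKp β hβ hβp
    refine ⟨g, hKL (hKG ▸ ⟨hK'p g hgM hgp, hgM⟩), fun v _ v' hv' => ?_⟩
    subst hv'
    exact hgv v'
  · -- the automorphisms of order prime to `p`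
    intro V hVP hWV g hgL hgp a ha
    have hVN : V ≤ normalizerIn S W := hVP.trans hP₀
    have hVN' : V ≤ normalizerIn S H := hVP.trans hP₀N
    have hVS : V ≤ S := hVN.trans inf_le_left
    have := H96.finite_of_le hVS
    have hgK : g ∈ KG := by
      have hgs := hgL
      rw [hL, Subgroup.mem_sup_of_normal_left] at hgs
      obtain ⟨k, hk, x, hx, hkx⟩ := hgs
      obtain ⟨m, hm⟩ := PG.isPGroup' ⟨x, hQP hx⟩
      have hm' : x ^ p ^ m = 1 := congrArg Subtype.val hm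
      obtain ⟨r, hr⟩ : ∃ r : ℕ, (g ^ p ^ m) ^ r = g :=
        exists_pow_eq_self_of_coprime (Nat.Coprime.pow_left m (Nat.coprime_comm.1 hgp))
      rw [← hr]
      refine pow_mem ((QuotientGroup.eq_one_iff _).1 ?_) r
      rw [← hkx, QuotientGroup.mk_pow, QuotientGroup.mk_mul, (QuotientGroup.eq_one_iff k).2 hk, one_mul,
        ← QuotientGroup.mk_pow, hm', QuotientGroup.mk_one]
    have hgM : qq g ∈ K := by
      have : g ∈ M := (hKG ▸ hgK : g ∈ K' ⊓ M).2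
      rwa [hM, Subgroup.mem_comap] at this
    obtain ⟨f, V', hf, hV', hfe⟩ := hmap V hVN' g fun x hx => by
      rw [← ha ⟨x, hx⟩]
      exact (hθP _).2 ⟨_, hVN' (Subtype.prop _), rfl⟩
    have hfa : ∀ x : V, f x = ((a x : V) : Ω) := fun x =>
      hθinj _ (hV' (hf.map_mem x.2)) _ (hVN' (a x).2) ((hfe x x.2).trans (ha x).symm)
    have hfV : Mor F V V f := hf.restrict_eq le_rfl (fun x hx => hfa ⟨x, hx⟩ ▸ (a _).2) fun y hy => by
      obtain ⟨x, hx⟩ := a.surjective ⟨y, hy⟩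
      exact ⟨x, x.2, (hfa x).trans (congrArg Subtype.val hx)⟩
    obtain ⟨a', ha', ha'e⟩ := hfV.exists_aut
    have haF : a ∈ F.autGroup V := by
      rwa [show a = a' from MulEquiv.ext fun x => Subtype.ext ((hfa x).symm.trans (ha'e x).symm)]
    have hpow : ∀ (n : ℕ) (x : V), θ (((a ^ n) x : V) : Ω) = g ^ n * θ x * (g ^ n)⁻¹ := by
      intro n
      induction n with
      | zero => intro v; simp
      | succ n ih => intro v; rw [pow_succ', MulAut.mul_apply, ha, ih, pow_succ']; group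
    have hap : (orderOf a).Coprime p := by
      refine Nat.Coprime.coprime_dvd_left (orderOf_dvd_of_pow_eq_one (MulEquiv.ext fun x => Subtype.ext ?_)) hgp
      refine hθinj _ (hVN' (Subtype.prop _)) _ (hVN' x.2) ?_
      rw [hpow, pow_orderOf_eq_one]
      simp
    have hcong : CongT T V a := fun x => by
      have hm : (x : Ω)⁻¹ * ((a x : V) : Ω) ∈ normalizerIn S H :=
        Subgroup.mul_mem _ (Subgroup.inv_mem _ (hVN' x.2)) (hVN' (a x).2)
      have h1 : θ ((x : Ω)⁻¹ * ((a x : V) : Ω)) ∈ A := by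
        refine hKGP _ ?_ ((hθP _).2 ⟨_, hm, rfl⟩)
        rw [hθmul _ (Subgroup.inv_mem _ (hVN' x.2)) _ (hVN' (a x).2), hθinv _ (hVN' x.2), ha,
          show (θ (x : Ω))⁻¹ * (g * θ (x : Ω) * g⁻¹) = (θ (x : Ω))⁻¹ * g * (θ (x : Ω))⁻¹⁻¹ * g⁻¹ by group]
        exact mul_mem (hKGn.conj_mem g hgK _) (inv_mem hgK)
      obtain ⟨t, ht, hte⟩ := (hAi _).1 h1
      exact hθinj t (hTN ht) _ hm hte ▸ ht.1
    have hfW : Mor F W W f := by
      refine hfV.restrict_eq hWV (fun x hx => ?_) fun y hy => ?_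
      · obtain ⟨w', hw', hw'e⟩ := hnorm g hgL x hx
        rwa [hθinj (f x) (hV' (hf.map_mem (hWV hx))) w' (hWN hw') ((hfe x (hWV hx)).trans hw'e.symm)]
      · obtain ⟨w', hw', hw'e⟩ := hnorm g⁻¹ (inv_mem hgL) y hy
        refine ⟨w', hw', hθinj _ (hV' (hf.map_mem (hWV hw'))) y (hWN hy) ?_⟩
        rw [hfe w' (hWV hw'), hw'e]
        group
    obtain ⟨aW, haW, haWe⟩ := hfW.exists_aut
    have hWW : W ⊓ T = W := inf_eq_left.2 hc.1
    have hcV : TCentric F T (V ⊓ T) := hc.mono (le_inf hWV hc.1) inf_le_right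
    refine ⟨hcV, GoodAut.base hcV haF hVS hcong hap ((inE_sup hS hE hWV hVN (by rwa [hWW]) haF hap
      fun x => ((hfa ⟨x, hWV x.2⟩).symm.trans (haWe x).symm)).2 ?_)⟩
    obtain ⟨fE, hfE, hfEe⟩ := (hKH _ hgM).2.2
    rw [hHW] at hfE
    refine ⟨fE, by rwa [hWW], fun x hx => ?_⟩
    rw [haWe]
    have hxH : (x : Ω) ∈ H := hH ▸ le_hull S W x.2
    rw [hfEe ⟨x, hxH⟩ hx]
    exact hθinj _ (hHN (Subtype.prop _)) _ (hV' (hf.map_mem (hWV x.2)))
      ((hq g ⟨x, hxH⟩).trans (hfe x (hWV x.2)).symm)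

end Cfsg.Agent.H94.Prod
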