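import Cfsg.Agent.H94.Prod.Loc
import Cfsg.Agent.H94.Prod.LocalGroup

/-!
The local group at a fully normalized subgroup of `T` which is centric: moved to a subgroup fully normalized in the
ambient system, it is cut out of the model of the normalizer.
-/

set_option autoImplicit false
set_option linter.unusedSectionVars false

universe u

namespace Cfsg.Agent.H94.Prod

open Cfsg Cfsg.FusionSystem
open Cfsg.Agent.H93 (Mor Reach)
open Cfsg.Agent.H94.Meet (TCentric hull le_hull exists_conjAut)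
open Cfsg.Agent.H24.Balance
open Cfsg.Agent.H44.BigClimb (SatBig)

variable {Ω : Type u} [Group Ω] {S T R W : Subgroup Ω} {F : FusionSystem S} {E : FusionSystem T} {p : ℕ}
  {hRS : R ≤ S}

/-- Good automorphisms stabilizing `W` lift to the hull up to a central element of `W`. -/
def Lift (p : ℕ) (F : FusionSystem S) (E : FusionSystem T) : Prop :=
  ∀ (W V : Subgroup Ω), TCentric F T W → F.IsFullyNormalized W → W ≤ V ⊓ T → V ≤ normalizerIn S W →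
    TCentric F T (V ⊓ T) → ∀ a : MulAut V, GoodAut p F E V a →
    (∀ x : V, ((a x : V) : Ω) ∈ W ↔ (x : Ω) ∈ W) →
    ∃ (b : MulAut ↥(hull S W ⊔ V)) (β : MulAut ↥(hull S W)) (z : Ω), b ∈ F.autGroup (hull S W ⊔ V) ∧
      (orderOf b).Coprime p ∧ CongT T (hull S W ⊔ V) b ∧ H24.Balance.InH F E (hull S W) β ∧
      (orderOf β).Coprime p ∧ (∀ (y : ↥(hull S W)) (hy : (y : Ω) ∈ hull S W ⊔ V),
        ((b ⟨y, hy⟩ : ↥(hull S W ⊔ V)) : Ω) = ((β y : ↥(hull S W)) : Ω)) ∧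
      z ∈ W ∧ (∀ q ∈ W, z * q * z⁻¹ = q) ∧ ∀ (x : V) (hx : z * (x : Ω) * z⁻¹ ∈ hull S W ⊔ V),
        ((a x : V) : Ω) = ((b ⟨_, hx⟩ : ↥(hull S W ⊔ V)) : Ω)

variable [Finite S] [Fact p.Prime]

/-- A map into a fully normalized conjugate carries the normalizer in `T` onto the normalizer in `T`. -/
theorem card_normalizer_le (hS : IsPGroup p S) (hE : E.IsNormalIn F p) (hTR : T ≤ R) (hWT : W ≤ T)
    (hW : (sys p F E R hRS).IsFullyNormalized W) (hov : SatBig (sys p F E R hRS) p (BigT T W)) {Wf : Subgroup Ω}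
    {π : Ω → Ω} (hπ : Mor F W Wf π) :
    Nat.card ↥(normalizerIn T Wf) ≤ Nat.card ↥(normalizerIn T W) := by
  have hI := hE.1.2.2
  obtain ⟨φ, hφ, hr, -⟩ := id hπ
  obtain ⟨α, hα, φ₀, hφ₀, he⟩ := hI.2.2.2 W hWT φ hφ
  have hT₀ : ∀ x, φ₀ x ∈ T := (E.le_of_mem hφ₀).2
  have hconj : (sys p F E R hRS).IsConj W φ₀.range := ⟨φ₀, sub_sys hS hE hTR W hφ₀, rfl⟩
  obtain ⟨a, M, ha, hM, -⟩ := reach hS hI hTR hWT hW hov _ hconj
  have hTD : (sys p F E R hRS).StronglyClosed T := stronglyClosed hI hTR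
  have := H96.finite_of_le (hI.2.1.1 : T ≤ S)
  have : Finite ↥(normalizerIn T W) := H96.finite_of_le ((inf_le_left : normalizerIn T W ≤ T).trans hI.2.1.1)
  have hαN : ∀ t : normalizerIn T Wf, ((α⁻¹ ⟨t, t.2.1⟩ : T) : Ω) ∈ normalizerIn T φ₀.range := by
    intro t
    have := H96.finite_of_le (show φ₀.range ≤ S by rintro _ ⟨x, rfl⟩; exact hI.2.1.1 (hT₀ x))
    refine ⟨Subtype.prop _, H94.mem_normalizer_of_forall_conj_mem ?_⟩
    rintro _ ⟨x, rfl⟩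
    have h1 : (t : Ω) * φ x * (t : Ω)⁻¹ ∈ φ.range := by
      rw [hr]
      exact (Subgroup.mem_normalizer_iff.1 t.2.2 _).1 (hr ▸ ⟨x, rfl⟩)
    obtain ⟨y, hy⟩ := h1
    refine ⟨y, ?_⟩
    have h2 : α ⟨φ₀ y, hT₀ y⟩ = ⟨t, t.2.1⟩ * α ⟨φ₀ x, hT₀ x⟩ * (⟨t, t.2.1⟩)⁻¹ := Subtype.ext (by
      simp only [Subgroup.coe_mul, Subgroup.coe_inv, ← he]
      exact hy)
    have h3 := congrArg (fun z => ((α⁻¹ z : T) : Ω)) h2
    simpa using h3
  have hTN : ∀ s, s ∈ normalizerIn T φ₀.range → s ∈ normalizerIn R φ₀.range := fun s hs => ⟨hTR hs.1, hs.2⟩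
  have haT := mor_inf hTD ha
  let g : normalizerIn T Wf → normalizerIn T W := fun t =>
    ⟨a ((α⁻¹ ⟨t, t.2.1⟩ : T) : Ω), (haT.map_mem ⟨hTN _ (hαN t), Subtype.prop _⟩).2,
      (hM (haT.map_mem ⟨hTN _ (hαN t), Subtype.prop _⟩).1).2⟩
  refine Nat.card_le_card_of_injective g fun t t' e => Subtype.ext ?_
  have h1 := ha.injOn (hTN _ (hαN t)) (hTN _ (hαN t')) (congrArg Subtype.val e)
  have h2 : (⟨t, t.2.1⟩ : T) = ⟨t', t'.2.1⟩ := α⁻¹.injective (Subtype.ext h1)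
  exact congrArg (fun z : T => (z : Ω)) h2

/-- The local group exists. -/
theorem exists_local (hS : IsPGroup p S) (hE : E.IsNormalIn F p) (hlift : Lift p F E) (hTR : T ≤ R)
    (hc : TCentric F T W) (hW : (sys p F E R hRS).IsFullyNormalized W)
    (hov : SatBig (sys p F E R hRS) p (BigT T W)) : Nonempty (Local p F E R W) := by
  classical
  obtain ⟨-, hF, hI⟩ := id hE.1
  have hT := hI.2.1
  have hWS : W ≤ S := hW.1.trans hRS
  obtain ⟨Wf, hWWf, hWf⟩ := H93.exists_isFullyNormalized F hWS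
  obtain ⟨π, M, hπ, hM, hπW⟩ := H93.exists_mor_normalizer hS
    (H93.IsFullyNormalized.isFullyAutomized hS hF hWf) (H93.IsFullyNormalized.isReceptive hS hF hWf) hWWf
  have hcf : TCentric F T Wf := hc.of_mor hT hπW
  have hNRS : normalizerIn R W ≤ normalizerIn S W := fun x hx => ⟨hRS hx.1, hx.2⟩
  obtain ⟨P₀, hP₀M, hπR⟩ := hπ.restrict hNRS
  have hP₀ : P₀ ≤ normalizerIn S Wf := hP₀M.trans hM
  have hTP : normalizerIn T Wf ≤ P₀ := by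
    obtain ⟨A, hA, hπT⟩ := hπR.restrict (fun x hx => ⟨hTR hx.1, hx.2⟩ : normalizerIn T W ≤ normalizerIn R W)
    have hAN : A ≤ normalizerIn T Wf := fun y hy => by
      obtain ⟨x, hx, rfl⟩ := hπT.surj hy
      exact ⟨((mor_inf hT hπ).map_mem ⟨hNRS ⟨hTR hx.1, hx.2⟩, hx.1⟩).2,
        (hP₀ (hA (hπT.map_mem hx))).2⟩
    have : Finite ↥(normalizerIn T Wf) := H96.finite_of_le ((inf_le_left : normalizerIn T Wf ≤ T).trans hT.1)
    rw [← Subgroup.eq_of_le_of_card_ge hAN (hπT.card_eq ▸ card_normalizer_le hS hE hTR hc.1 hW hov hπW)]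
    exact hA
  obtain ⟨G, hG, hfin, θ, Q, L, hmul, hinj, hQ, hQL, hsyl, hnorm, hlifts, hback⟩ :=
    exists_group hS hE hcf hWf hP₀ hTP
  have hπN : ∀ x ∈ normalizerIn R W, π x ∈ normalizerIn S Wf := fun x hx => hP₀ (hπR.map_mem hx)
  have hWN : W ≤ normalizerIn R W := H93.le_normalizerIn hW.1
  -- conjugating automorphisms along `π`
  have hmove : ∀ (V : Subgroup Ω) (a : MulAut V), W ≤ V → V ≤ normalizerIn R W →
      ∃ (V₁ : Subgroup Ω) (a₁ : MulAut V₁), V₁ ≤ P₀ ∧ Wf ≤ V₁ ∧ ∃ h : Mor F V V₁ π,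
        ∀ x : V, π ((a x : V) : Ω) = ((a₁ ⟨π x, h.map_mem x.2⟩ : V₁) : Ω) := by
    intro V a hWV hV
    obtain ⟨V₁, hV₁, h⟩ := hπR.restrict hV
    obtain ⟨a₁, ha₁⟩ := exists_conjAut h a
    refine ⟨V₁, a₁, hV₁, fun y hy => ?_, h, ha₁⟩
    obtain ⟨x, hx, rfl⟩ := hπW.surj hy
    exact h.map_mem (hWV hx)
  refine ⟨⟨G, fun x => θ (π x), Q, L, ?_, ?_, ?_, hQL, hsyl, ?_, ?_, ?_⟩⟩
  · intro x hx y hy
    rw [hπR.map_mul hx hy]
    exact hmul _ (hπN x hx) _ (hπN y hy)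
  · exact fun x hx y hy e => hπR.injOn hx hy (hinj _ (hπN x hx) _ (hπN y hy) e)
  · intro y
    rw [hQ]
    constructor
    · rintro ⟨z, hz, rfl⟩
      obtain ⟨x, hx, rfl⟩ := hπR.surj hz
      exact ⟨x, hx, rfl⟩
    · rintro ⟨x, hx, rfl⟩
      exact ⟨π x, hπR.map_mem hx, rfl⟩
  · intro g hg w hw
    obtain ⟨w', hw', he⟩ := hnorm g hg _ (hπW.map_mem hw)
    obtain ⟨w'', hw'', rfl⟩ := hπW.surj hw'
    exact ⟨w'', hw'', he⟩
  · intro V a hWV hV ha haW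
    obtain ⟨V₁, a₁, hV₁, hWV₁, h, ha₁⟩ := hmove V a hWV hV
    have hga : GoodAut p F E V₁ a₁ := ha.2.2.conj hI h ha₁
    have haW₁ : ∀ y : V₁, ((a₁ y : V₁) : Ω) ∈ Wf ↔ (y : Ω) ∈ Wf := by
      rintro ⟨y, hy⟩
      obtain ⟨x, hx, rfl⟩ := h.surj hy
      rw [← ha₁ ⟨x, hx⟩, h.mem_iff hπW hWV (a _).2, h.mem_iff hπW hWV hx]
      exact haW ⟨x, hx⟩
    obtain ⟨b, β, z, hb, hbp, -, hβ, hβp, hbβ, hz, -, hza⟩ := hlift Wf V₁ hcf hWf (le_inf hWV₁ hcf.1)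
      (hV₁.trans hP₀) (ha.2.1.of_mor hT (mor_inf hT h)) a₁ hga haW₁
    obtain ⟨g, hg, hgv⟩ := hlifts V₁ hV₁ hWV₁ b β hb hbp hβ hβp fun y => hbβ y _
    obtain ⟨z₀, hz₀, hz₀e⟩ := hπW.surj hz
    have hzQ : θ z ∈ L := hQL ((hQ _).2 ⟨z, hV₁ (hWV₁ hz), rfl⟩)
    refine ⟨g * θ z, mul_mem hg hzQ, fun x => ?_⟩
    have hx1 : π x ∈ normalizerIn S Wf := hπN _ (hV x.2)
    have hz1 : z ∈ normalizerIn S Wf := hP₀ (hV₁ (hWV₁ hz))
    have hxx : z * π x * z⁻¹ ∈ hull S Wf ⊔ V₁ := Subgroup.mem_sup_right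
      (mul_mem (mul_mem (hWV₁ hz) (h.map_mem x.2)) (inv_mem (hWV₁ hz)))
    have h1 := hza ⟨π x, h.map_mem x.2⟩ hxx
    show θ (π ((a x : V) : Ω)) = g * θ z * θ (π x) * (g * θ z)⁻¹
    rw [ha₁, h1, hgv _ hxx ⟨_, hxx⟩ rfl, hmul _ (mul_mem hz1 hx1) _ (inv_mem hz1), hmul _ hz1 _ hx1,
      show θ z⁻¹ = (θ z)⁻¹ from eq_inv_of_mul_eq_one_left (by
        rw [← hmul _ (inv_mem hz1) _ hz1, inv_mul_cancel]
        have h2 := hmul 1 (one_mem _) 1 (one_mem _)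
        rw [one_mul] at h2
        exact mul_eq_left.1 h2.symm)]
    group
  · intro V hV hWV g hg hgp a ha
    obtain ⟨V₁, a₁, hV₁, hWV₁, h, ha₁⟩ := hmove V a hWV hV
    obtain ⟨hc₁, hg₁⟩ := hback V₁ hV₁ hWV₁ g hg hgp a₁ fun y => by
      obtain ⟨x, hx, hxy⟩ := h.surj y.2
      rw [show y = ⟨π x, h.map_mem hx⟩ from Subtype.ext hxy.symm, ← ha₁ ⟨x, hx⟩]
      exact ha ⟨x, hx⟩
    obtain ⟨i, hi, hi1, -⟩ := h.exists_inv
    refine ⟨hV.trans inf_le_left, hc₁.of_mor hT (mor_inf hT hi), hg₁.conj hI hi fun y => ?_⟩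
    obtain ⟨x, hx, hxy⟩ := h.surj y.2
    have e1 : y = ⟨π x, h.map_mem hx⟩ := Subtype.ext hxy.symm
    rw [e1, ← ha₁ ⟨x, hx⟩, hi1 _ (a _).2]
    exact congrArg (fun z => ((a z : V) : Ω)) (Subtype.ext (hi1 x hx).symm)

end Cfsg.Agent.H94.Prod
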