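import Cfsg.Agent.H94.Prod.Saturated
import Cfsg.Agent.H22.ResidualNormalIn
import Cfsg.Agent.H35.ProdLift
import Cfsg.Agent.H94.PPowerExists

/-!
Existence and uniqueness of the product of a normal subsystem with a subgroup containing its base.
-/

set_option autoImplicit false
set_option linter.unusedSectionVars false

universe u

namespace Cfsg.Agent.H94.Prod

open Cfsg Cfsg.FusionSystem
open Cfsg.Agent.H93 (Mor)
open Cfsg.Agent.H94.Meet (TCentric)
open Cfsg.Agent.H24.Balance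

variable {Ω : Type u} [Group Ω] {S T R : Subgroup Ω} {F : FusionSystem S} {E : FusionSystem T} {p : ℕ}
  [Finite S] [Fact p.Prime]

theorem lift_holds (hS : IsPGroup p S) (hE : E.IsNormalIn F p) : Lift p F E :=
  fun _ _ hWc hWn hWV hV hc _ ha haW => H35.ProdLift.exists_lift hS hE hWc hWn hWV hV hc ha haW

/-- Equal maps give equal automizers. -/
theorem autGroup_eq_of_hom {U V : Subgroup Ω} {A : FusionSystem U} {B : FusionSystem V} {P : Subgroup Ω}
    (h : A.Hom P = B.Hom P) : A.autGroup P = B.autGroup P := by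
  unfold FusionSystem.autGroup
  rw [h]

/-- The pullback property of every local group at a subgroup of `T`. -/
def PullbackAll (p : ℕ) (F : FusionSystem S) (E : FusionSystem T) (R : Subgroup Ω) (hRS : R ≤ S) : Prop :=
  ∀ (W : Subgroup Ω) (Λ : Local p F E R W), W ≤ T → Pullback hRS Λ

/-- Competitors contain the generators. -/
def ClosedAll (p : ℕ) (F : FusionSystem S) (E : FusionSystem T) (R : Subgroup Ω) : Prop :=
  ∀ X : FusionSystem R, X.IsSaturated p → X.IsSubsystemOf F → E.IsSubsystemOf X → X.hyperfocalSubgroup p ≤ T →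
    (∀ W : Subgroup Ω, W ≤ T → ∀ a ∈ X.autGroup W, (orderOf a).Coprime p → a ∈ E.autGroup W) → Closed p F E X

/-- The product. -/
theorem exists_product (hS : IsPGroup p S) (hE : E.IsNormalIn F p) (hTR : T ≤ R) (hRS : R ≤ S)
    (hback : ∀ (T' : Subgroup Ω) (E' : FusionSystem T'), E'.IsNormalIn F p → T' ≤ R → PullbackAll p F E' R hRS)
    (hclosed : ∀ (T' : Subgroup Ω) (E' : FusionSystem T'), E'.IsNormalIn F p → T' ≤ R → ClosedAll p F E' R) :
    ∃ D : FusionSystem R, (D.IsSaturated p ∧ D.IsSubsystemOf F ∧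
      D.hyperfocalSubgroup p = E.hyperfocalSubgroup p ∧
      ∀ (D₁ : FusionSystem (D.hyperfocalSubgroup p)) (E₁ : FusionSystem (E.hyperfocalSubgroup p)),
        D.IsPResidual p D₁ → E.IsPResidual p E₁ → ∀ P : Subgroup Ω, D₁.Hom P = E₁.Hom P) ∧
      ∀ D' : FusionSystem R, D'.IsSaturated p → D'.IsSubsystemOf F →
        D'.hyperfocalSubgroup p = E.hyperfocalSubgroup p →
        (∀ (D₁ : FusionSystem (D'.hyperfocalSubgroup p)) (E₁ : FusionSystem (E.hyperfocalSubgroup p)),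
          D'.IsPResidual p D₁ → E.IsPResidual p E₁ → ∀ P : Subgroup Ω, D₁.Hom P = E₁.Hom P) →
        ∀ P : Subgroup Ω, D'.Hom P = D.Hom P := by
  obtain ⟨hEs, hF, hI⟩ := id hE.1
  have hTS : T ≤ S := hI.2.1.1
  have hRp : IsPGroup p R := hS.to_le hRS
  have := H96.finite_of_le hRS
  have := H96.finite_of_le hTS
  have hT₀T : E.hyperfocalSubgroup p ≤ T := H94.hyperfocal_le E p
  have hT₀R : E.hyperfocalSubgroup p ≤ R := hT₀T.trans hTR
  obtain ⟨E₁, hE₁s, hE₁i⟩ := H94.exists_pPowerIndex (hS.to_le hTS) hEs hT₀T le_rfl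
  have hN : E₁.IsNormalIn F p := H22.residual_isNormalIn hS hE ⟨hE₁s, hE₁i⟩
  have hI₁ := hN.1.2.2
  obtain ⟨D, hD⟩ : ∃ D, D = sys p F E₁ R hRS := ⟨_, rfl⟩
  have hDs : D.IsSaturated p :=
    hD ▸ isSaturated hS hN (lift_holds hS hN) hT₀R (hback _ E₁ hN hT₀R)
  have hDF : D.IsSubsystemOf F := hD ▸ isSubsystemOf
  have hhyp : D.hyperfocalSubgroup p = E.hyperfocalSubgroup p := by
    refine le_antisymm (hD ▸ hyperfocal_le hS hI₁) (H94.Comp.hyperfocal_mono hTR ?_)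
    rw [hD]
    exact le_sys hS hN hT₀T hTR hEs hI.1 hE₁i.1 le_rfl fun W hW a ha hap =>
      hE₁i.2.2 W hW ⟨⟨a, ha⟩, Subgroup.subset_closure (by
        show (orderOf (⟨a, ha⟩ : E.autGroup W)).Coprime p
        rwa [Subgroup.orderOf_mk]), rfl⟩
  have hE₁D : E₁.HasPPowerIndexIn D p := by
    refine ⟨hD ▸ sub_sys hS hN hT₀R, hhyp.le, fun P hP => ?_⟩
    rintro _ ⟨κ, hκ, rfl⟩
    induction hκ using Subgroup.closure_induction with
    | mem a ha =>
      obtain ⟨f, hf, hfe⟩ := inE_of_coprime (U := P) hS hI₁ (hP.trans hT₀R) (by rw [← hD]; exact a.2)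
        (by rw [Subgroup.orderOf_coe]; exact ha)
      rw [inf_eq_left.2 hP] at hf
      exact (Meet.actsIn_iff hP).1 ⟨f, hf, fun x => hfe x (hP x.2)⟩
    | one => exact Subgroup.one_mem _
    | mul a b _ _ iha ihb => exact Subgroup.mul_mem _ iha ihb
    | inv a _ ih => exact Subgroup.inv_mem _ ih
  have key : ∀ (U : Subgroup Ω) (D₁ : FusionSystem U), U = E.hyperfocalSubgroup p → D₁.IsSaturated p →
      D₁.HasPPowerIndexIn D p → ∀ P, D₁.Hom P = E₁.Hom P := by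
    rintro U D₁ rfl hs hi P
    rw [H94.pPowerIndex_unique hRp hT₀R hs hi hE₁s hE₁D]
  refine ⟨D, ⟨hDs, hDF, hhyp, fun D₁ E₁' h₁ h₂ P => ?_⟩, fun D' hD's hD'F hD'h hD'res P => ?_⟩
  · rw [key _ D₁ hhyp h₁.1 h₁.2, H94.pPowerIndex_unique (hS.to_le hTS) hT₀T h₂.1 h₂.2 hE₁s hE₁i]
  · obtain ⟨D'₁, hD'₁s, hD'₁i⟩ := H94.exists_pPowerIndex hRp hD's (H94.hyperfocal_le D' p) le_rfl
    have heq := hD'res D'₁ E₁ ⟨hD'₁s, hD'₁i⟩ ⟨hE₁s, hE₁i⟩
    have hE₁D' : E₁.IsSubsystemOf D' := fun Q φ hφ => hD'₁i.1 Q (heq Q ▸ hφ)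
    have hres : ∀ W : Subgroup Ω, W ≤ E.hyperfocalSubgroup p → ∀ a ∈ D'.autGroup W, (orderOf a).Coprime p →
        a ∈ E₁.autGroup W := fun W hW a ha hap => autGroup_eq_of_hom (heq W) ▸
      hD'₁i.2.2 W (hD'h ▸ hW) ⟨⟨a, ha⟩, Subgroup.subset_closure (by
        show (orderOf (⟨a, ha⟩ : D'.autGroup W)).Coprime p
        rwa [Subgroup.orderOf_mk]), rfl⟩
    have h1 : D'.IsSubsystemOf (sys p F E₁ R hRS) :=
      le_sys hS hN hT₀R le_rfl hD's hD'F hE₁D' hD'h.le hres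
    have h2 : sys p F E₁ R hRS ≤ D' := sys_le (hclosed _ E₁ hN hT₀R D' hD's hD'F hE₁D' hD'h.le hres)
    rw [hD]
    exact Set.Subset.antisymm (fun φ hφ => h1 P hφ) (h2 P)

end Cfsg.Agent.H94.Prod
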