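import Cfsg.Agent.H94.Prod.Contains
import Cfsg.Agent.H44.BigClimb

/-!
In the product, the conjugates of a subgroup `W` of `T` reach a fully normalized one, provided the subgroups with
larger part in `T` have fully automized receptive conjugates.
-/

set_option autoImplicit false
set_option linter.unusedSectionVars false

namespace Cfsg.Agent.H94.Prod

open Cfsg Cfsg.FusionSystem
open Cfsg.Agent.H93 (Mor Reach)
open Cfsg.Agent.H94.Meet (TCentric)
open Cfsg.Agent.H24.Balance
open Cfsg.Agent.H44.BigClimb (ConjStable MonoIn SatBig)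

variable {Ω : Type*} [Group Ω] {S T R W : Subgroup Ω} {F : FusionSystem S} {E : FusionSystem T} {p : ℕ}
  {hRS : R ≤ S} [Finite S] [Fact p.Prime]

/-- Subgroups with part in `T` larger than `W`. -/
def BigT (T W X : Subgroup Ω) : Prop := Nat.card W < Nat.card ↥(X ⊓ T)

theorem bigT_conjStable (hI : E.IsInvariantIn F) : ConjStable (sys p F E R hRS) (BigT T W) := by
  rintro X Y ⟨φ, hφ, hr⟩ h
  obtain ⟨f, hf, -⟩ := H93.exists_mor hφ hr
  show _ < _
  rw [← (mor_inf hI.2.1 (mor_toF hf)).card_eq]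
  exact h

theorem bigT_monoIn (hRS : R ≤ S) : MonoIn R (BigT T W) := fun X Y hXY hY h =>
  lt_of_lt_of_le h (by
    have := H96.finite_of_le ((inf_le_left : Y ⊓ T ≤ Y).trans (hY.trans hRS))
    exact Subgroup.card_le_of_le (inf_le_inf_right T hXY))

/-- `E` is contained in the product. -/
theorem sub_sys (hS : IsPGroup p S) (hE : E.IsNormalIn F p) (hTR : T ≤ R) :
    E.IsSubsystemOf (sys p F E R hRS) :=
  le_sys hS hE le_rfl hTR hE.1.1 hE.1.2.2.1 (fun _ _ h => h) (H94.hyperfocal_le E p) fun _ _ _ h _ => h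

/-- Maps defined on larger parts in `T` pull back reachability. -/
theorem reach_of_big (hS : IsPGroup p S) (hI : E.IsInvariantIn F)
    (hW : (sys p F E R hRS).IsFullyNormalized W) (hov : SatBig (sys p F E R hRS) p (BigT T W))
    {N N' A B : Subgroup Ω} {f : Ω → Ω} (hf : Mor (sys p F E R hRS) N N' f) (hfA : Mor (sys p F E R hRS) A B f)
    (hA : (sys p F E R hRS).IsConj W A) (hAN : A < N) (hNT : N ≤ T)
    (hB : Reach (sys p F E R hRS) B W) : Reach (sys p F E R hRS) A W := by
  have := H96.finite_of_le hRS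
  have hNR : N ≤ R := hf.le_left
  have := H96.finite_of_le (hNR.trans hRS)
  refine H44.BigClimb.reach_of_step (hS.to_le hRS) hW (bigT_conjStable hI) (bigT_monoIn hRS) hov hf hAN hfA hB ?_
  show _ < _
  rw [inf_eq_left.2 (inf_le_left.trans hNT), H93.isConj_card_eq hA]
  exact H93.card_lt_card_of_lt (H93.lt_inf_normalizer (H93.isPGroup_of_le hS (hNR.trans hRS)) hAN)
    (inf_le_left.trans (hNR.trans hRS))

/-- All conjugates reach a fully normalized one. -/
theorem reach (hS : IsPGroup p S) (hI : E.IsInvariantIn F) (hTR : T ≤ R) (hWT : W ≤ T)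
    (hW : (sys p F E R hRS).IsFullyNormalized W) (hov : SatBig (sys p F E R hRS) p (BigT T W)) :
    ∀ W' : Subgroup Ω, (sys p F E R hRS).IsConj W W' → Reach (sys p F E R hRS) W' W := by
  intro W' hW'
  let D := sys p F E R hRS
  have := H96.finite_of_le hRS
  obtain ⟨φ, hφ, hr⟩ := id hW'
  obtain ⟨f, hf, -⟩ := H93.exists_mor hφ hr
  have key : ∀ P P' g, Mor D P P' g → ∀ A B, A ≤ P → Mor D A B g → D.IsConj W A →
      (Reach D A W ↔ Reach D B W) := by
    refine sys_induction (Φ := fun P _ g => ∀ A B, A ≤ P → Mor D A B g → D.IsConj W A →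
      (Reach D A W ↔ Reach D B W)) ?_ ?_ ?_ ?_ ?_
    · exact fun P P' g g' e h A B hAP hg hA => h A B hAP (hg.congr fun x hx => (e x (hAP hx)).symm) hA
    · intro P P' r hr _ A B _ hg hA
      have hAR : A ≤ R := hg.le_left
      have hB : ∀ x ∈ normalizerIn R A, r * x * r⁻¹ ∈ normalizerIn R B := by
        intro x hx
        have := H96.finite_of_le (hg.le_right.trans hRS)
        refine ⟨R.mul_mem (R.mul_mem hr hx.1) (R.inv_mem hr), H94.mem_normalizer_of_forall_conj_mem fun y hy => ?_⟩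
        obtain ⟨a, ha, rfl⟩ := hg.surj hy
        rw [show r * x * r⁻¹ * (r * a * r⁻¹) * (r * x * r⁻¹)⁻¹ = r * (x * a * x⁻¹) * r⁻¹ by group]
        exact hg.map_mem (H93.mem_normalizerIn_conj hx ha)
      have hB' : ∀ x ∈ normalizerIn R B, r⁻¹ * x * r⁻¹⁻¹ ∈ normalizerIn R A := by
        intro x hx
        have := H96.finite_of_le (hAR.trans hRS)
        refine ⟨R.mul_mem (R.mul_mem (R.inv_mem hr) hx.1) (R.inv_mem (R.inv_mem hr)),
          H94.mem_normalizer_of_forall_conj_mem fun y hy => ?_⟩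
        obtain ⟨a, ha, hae⟩ := hg.surj (H93.mem_normalizerIn_conj hx (hg.map_mem hy))
        rw [show r⁻¹ * x * r⁻¹⁻¹ * y * (r⁻¹ * x * r⁻¹⁻¹)⁻¹ = r⁻¹ * (x * (r * y * r⁻¹) * x⁻¹) * r by group, ← hae,
          show r⁻¹ * (r * a * r⁻¹) * r = a by group]
        exact ha
      have hcr : ∀ s ∈ R, Mor D R R (fun x => s * x * s⁻¹) := fun s hs =>
        H93.mor_conj D le_rfl ⟨hs, Subgroup.le_normalizer hs⟩
      constructor
      · rintro ⟨a, M, ha, hM, haW⟩
        obtain ⟨N', -, hN'⟩ := (hcr r⁻¹ (R.inv_mem hr)).restrict (inf_le_left : normalizerIn R B ≤ R)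
        have hle : N' ≤ normalizerIn R A := fun y hy => by
          obtain ⟨x, hx, rfl⟩ := hN'.surj hy; exact hB' x hx
        obtain ⟨M', hM', haM⟩ := ha.restrict hle
        refine ⟨_, M', haM.comp hN', hM'.trans hM, haW.comp ?_⟩
        refine (hcr r⁻¹ (R.inv_mem hr)).restrict_eq hg.le_right (fun y hy => ?_) fun x hx => ?_
        · obtain ⟨a, ha, rfl⟩ := hg.surj hy
          rw [show r⁻¹ * (r * a * r⁻¹) * r⁻¹⁻¹ = a by group]
          exact ha
        · exact ⟨r * x * r⁻¹, hg.map_mem hx, by group⟩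
      · rintro ⟨a, M, ha, hM, haW⟩
        obtain ⟨N', -, hN'⟩ := (hcr r hr).restrict (inf_le_left : normalizerIn R A ≤ R)
        have hle : N' ≤ normalizerIn R B := fun y hy => by
          obtain ⟨x, hx, rfl⟩ := hN'.surj hy; exact hB x hx
        obtain ⟨M', hM', haM⟩ := ha.restrict hle
        exact ⟨_, M', haM.comp hN', hM'.trans hM, haW.comp hg⟩
    · intro U a P P' g ha hPU he hgU _ A B hAP hgA hA
      obtain ⟨φA, hφA, hrA⟩ := id hA
      obtain ⟨k, hk, -⟩ := H93.exists_mor hφA hrA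
      have hAT : A ≤ T := fun y hy => by
        obtain ⟨x, hx, rfl⟩ := hk.surj hy
        obtain ⟨χ, hχ, -, hχv⟩ := id hk
        exact hχv ⟨x, hx⟩ ▸ H93.StronglyClosed.apply_mem (stronglyClosed hI hTR) hχ _ (hWT hx)
      have hAU : A ≤ U ⊓ T := le_inf (hAP.trans hPU) hAT
      have hgT : Mor D (U ⊓ T) (U ⊓ T) g := mor_inf (stronglyClosed hI hTR) hgU
      rcases eq_or_lt_of_le hAU with e | hlt
      · have : B = A := by
          ext y
          constructor
          · intro hy
            obtain ⟨x, hx, rfl⟩ := hgA.surj hy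
            exact e ▸ hgT.map_mem (e ▸ hx)
          · intro hy
            obtain ⟨x, hx, rfl⟩ := hgT.surj (e ▸ hy)
            exact hgA.map_mem (e ▸ hx)
        rw [this]
      · refine ⟨fun h => ?_, fun h => reach_of_big hS hI hW hov hgT hgA hA hlt inf_le_right h⟩
        obtain ⟨gi, hgi, hgi1, -⟩ := hgT.exists_inv
        have hgiB : Mor D B A gi := by
          have hBU : B ≤ U ⊓ T := fun y hy => by
            obtain ⟨x, hx, rfl⟩ := hgA.surj hy; exact hgT.map_mem (hlt.le hx)
          refine hgi.restrict_eq hBU (fun y hy => ?_) fun x hx => ⟨g x, hgA.map_mem hx, hgi1 x (hlt.le hx)⟩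
          obtain ⟨x, hx, rfl⟩ := hgA.surj hy
          rwa [hgi1 x (hlt.le hx)]
        refine reach_of_big hS hI hW hov hgi hgiB (H93.isConj_trans hA hgA.isConj) ?_ inf_le_right h
        refine lt_of_le_of_ne (fun y hy => ?_) fun e => ?_
        · obtain ⟨x, hx, rfl⟩ := hgA.surj hy; exact hgT.map_mem (hlt.le hx)
        · have := H93.card_lt_card_of_lt hlt (inf_le_left.trans (ha.le.trans hRS))
          rw [hgA.card_eq, e] at this
          omega
    · intro P P' P'' g g' hg hg' h h' A B hAP hgg hA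
      obtain ⟨C, hC, hgA⟩ := hg.restrict hAP
      have hg'C : Mor D C B g' := by
        refine hg'.restrict_eq hC (fun y hy => ?_) fun z hz => ?_
        · obtain ⟨x, hx, rfl⟩ := hgA.surj hy; exact hgg.map_mem hx
        · obtain ⟨x, hx, rfl⟩ := hgg.surj hz; exact ⟨_, hgA.map_mem hx, rfl⟩
      exact (h A C hAP hgA hA).trans (h' C B hC hg'C (H93.isConj_trans hA hgA.isConj))
    · intro P P' g g' hg hg' e h A B hAP hgA hA
      have hB : ∀ y ∈ B, y ∈ P ∧ g y ∈ A := by
        intro y hy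
        obtain ⟨x, hx, rfl⟩ := hgA.surj hy
        refine ⟨hg'.map_mem (hAP hx), ?_⟩
        obtain ⟨z, hz, rfl⟩ := hg.surj (hAP hx)
        rwa [e z hz]
      have hgB : Mor D B A g := by
        refine hg.restrict_eq (fun y hy => (hB y hy).1) (fun y hy => (hB y hy).2) fun x hx => ?_
        obtain ⟨z, hz, rfl⟩ := hg.surj (hAP hx)
        exact ⟨z, e z hz ▸ hgA.map_mem hx, rfl⟩
      exact (h B A (fun y hy => (hB y hy).1) hgB (H93.isConj_trans hA hgA.isConj)).symm
  refine (key W W' f hf W W' le_rfl hf (H93.isConj_refl D hW.1)).1 ?_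
  exact ⟨fun x => x, _, Mor.id D inf_le_left, le_rfl, Mor.id D hW.1⟩

end Cfsg.Agent.H94.Prod
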