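import Cfsg.Agent.H94.Prod.Level
import Cfsg.Agent.H94.Prod.LocalExists

/-!
The product is saturated: induction on the order of the part in `T`, weighted by the order of the subgroup.
-/

set_option autoImplicit false
set_option linter.unusedSectionVars false

universe u

namespace Cfsg.Agent.H94.Prod

open Cfsg Cfsg.FusionSystem
open Cfsg.Agent.H93 (Mor Reach)
open Cfsg.Agent.H94.Meet (TCentric)
open Cfsg.Agent.H24.Balance
open Cfsg.Agent.H44.BigClimb (SatBig)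

variable {Ω : Type u} [Group Ω] {S T R W : Subgroup Ω} {F : FusionSystem S} {E : FusionSystem T} {p : ℕ}
  {hRS : R ≤ S} [Finite S] [Fact p.Prime]

/-- The weight. -/
noncomputable def weight (T R X : Subgroup Ω) : ℕ := Nat.card ↥(X ⊓ T) * (Nat.card R + 1) + Nat.card X

theorem weight_isConj (hI : E.IsInvariantIn F) {X Y : Subgroup Ω} (h : (sys p F E R hRS).IsConj X Y) :
    weight T R X = weight T R Y := by
  obtain ⟨φ, hφ, hr⟩ := h
  obtain ⟨f, hf, -⟩ := H93.exists_mor hφ hr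
  rw [weight, weight, hf.card_eq, (mor_inf hI.2.1 (mor_toF hf)).card_eq]

theorem weight_lt (hRS : R ≤ S) {P Q : Subgroup Ω} (h : P < Q) (hQ : Q ≤ R) : weight T R P < weight T R Q := by
  have := H96.finite_of_le ((inf_le_left : Q ⊓ T ≤ Q).trans (hQ.trans hRS))
  have := H93.card_lt_card_of_lt h (hQ.trans hRS)
  have := Subgroup.card_le_of_le (inf_le_inf_right T h.le)
  have := Nat.mul_le_mul_right (Nat.card R + 1) this
  unfold weight
  omega

theorem weight_lt_of_bigT (hRS : R ≤ S) {P X : Subgroup Ω} (hP : P ≤ R) (hW : Nat.card W = Nat.card ↥(P ⊓ T))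
    (h : BigT T W X) : weight T R P < weight T R X := by
  have := H96.finite_of_le hRS
  have := Subgroup.card_le_of_le hP
  have h' : Nat.card ↥(P ⊓ T) + 1 ≤ Nat.card ↥(X ⊓ T) := hW ▸ h
  have := Nat.mul_le_mul_right (Nat.card R + 1) h'
  rw [add_one_mul] at this
  unfold weight
  omega

/-- Outside the family an inducing element of `T` gives a normal `p`-subgroup of the automizer which is not inner. -/
theorem exists_not_inner (hS : IsPGroup p S) (hE : E.IsNormalIn F p) (hTR : T ≤ R) {P : Subgroup Ω}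
    (hP : (sys p F E R hRS).IsCentric P) (hPc : ¬ TCentric F T (P ⊓ T))
    (hov : ∀ X : Subgroup Ω, X ≤ R → weight T R P < weight T R X →
      ∃ Y, (sys p F E R hRS).IsConj X Y ∧ (sys p F E R hRS).IsFullyAutomized p Y ∧
        (sys p F E R hRS).IsReceptive Y) :
    ∃ Q, (sys p F E R hRS).IsConj P Q ∧
      ¬ (autInducedBy R Q ⊓ H93.opAut (sys p F E R hRS) p Q ≤ Inn Q) := by
  classical
  have hI := hE.1.2.2
  have hT := hI.2.1
  obtain ⟨D, hD⟩ : ∃ D, D = sys p F E R hRS := ⟨_, rfl⟩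
  rw [← hD] at hP hov ⊢
  have := H96.finite_of_le hRS
  have hTD : D.StronglyClosed T := hD ▸ stronglyClosed hI hTR
  obtain ⟨W, hPW, hW⟩ := H93.exists_isFullyNormalized D ((inf_le_left : P ⊓ T ≤ P).trans hP.1)
  obtain ⟨φ, hφ, hr⟩ := id hPW
  obtain ⟨k, hk, -⟩ := H93.exists_mor hφ hr
  have hWT : W ≤ T := fun y hy => by
    obtain ⟨x, hx, rfl⟩ := hk.surj hy
    obtain ⟨χ, hχ, -, hχv⟩ := id hk
    exact hχv ⟨x, hx⟩ ▸ hTD.2 _ inf_le_right χ hχ _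
  have hSat : SatBig (sys p F E R hRS) p (BigT T W) := by
    rw [← hD]
    exact fun X hX hXb => hov X hX (weight_lt_of_bigT hRS hP.1 hk.card_eq.symm hXb)
  have hreach : ∀ W', D.IsConj W W' → Reach D W' W := hD ▸ reach hS hI hTR hWT (hD ▸ hW) hSat
  -- the conjugate inside the normalizer
  obtain ⟨a, M, ha, hM, haW⟩ := hreach _ (H93.isConj_symm hPW)
  have hPN : P ≤ normalizerIn R (P ⊓ T) := fun x hx => by
    have := H96.finite_of_le ((inf_le_left : P ⊓ T ≤ P).trans (hP.1.trans hRS))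
    exact ⟨hP.1 hx, H94.mem_normalizer_of_forall_conj_mem fun y hy =>
      ⟨P.mul_mem (P.mul_mem hx hy.1) (P.inv_mem hx), H93.StronglyClosed.conj_mem hT (hRS (hP.1 hx)) hy.2⟩⟩
  obtain ⟨Q, hQM, haP⟩ := ha.restrict hPN
  have hQN : Q ≤ normalizerIn R W := hQM.trans hM
  have hQW : Q ⊓ T = W := Core.eq_of_mor (F := D) (mor_inf hTD haP) haW fun _ _ => rfl
  have hQ : D.IsCentric Q := by
    refine ⟨haP.le_right, fun Q' hQ' => hP.2 Q' (H93.isConj_trans haP.isConj hQ')⟩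
  refine ⟨Q, haP.isConj, fun hle => ?_⟩
  -- an element of `C_T(W)` outside `W`
  obtain ⟨c, hc, hcW⟩ : ∃ c ∈ centralizerIn T W, c ∉ W := by
    by_contra hcon
    refine hPc ⟨inf_le_right, fun U hU => ?_⟩
    obtain ⟨ψ, hψ, hψr⟩ := H93.isConj_trans (H93.isConj_symm
      (show F.IsConj (P ⊓ T) W from (mor_toF (hD ▸ hk)).isConj)) hU
    obtain ⟨α, hα, φ₀, hφ₀, he⟩ := hI.2.2.2 W hWT ψ hψ
    have hT₀ : ∀ x, φ₀ x ∈ T := (E.le_of_mem hφ₀).2
    obtain ⟨b, M₂, hb, hM₂, hbW⟩ := hreach φ₀.range (hD ▸ ⟨φ₀, sub_sys hS hE hTR W hφ₀, rfl⟩)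
    have hU₀ : φ₀.range ≤ normalizerIn R φ₀.range :=
      H93.le_normalizerIn (by rintro _ ⟨x, rfl⟩; exact hTR (hT₀ x))
    intro u hu
    have hu' : ∀ y ∈ φ₀.range, ((α⁻¹ ⟨u, hu.1⟩ : T) : Ω) * y * (((α⁻¹ ⟨u, hu.1⟩ : T) : Ω))⁻¹ = y := by
      rintro _ ⟨x, rfl⟩
      have h1 : (⟨u, hu.1⟩ : T) * α ⟨φ₀ x, hT₀ x⟩ * (⟨u, hu.1⟩ : T)⁻¹ = α ⟨φ₀ x, hT₀ x⟩ := Subtype.ext (by
        simp only [Subgroup.coe_mul, Subgroup.coe_inv, ← he]
        exact (H93.mem_centralizerIn.1 hu).2 _ (hψr ▸ ⟨x, rfl⟩))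
      have h2 := congrArg (fun z => ((α⁻¹ z : T) : Ω)) h1
      simpa using h2
    have hv : ((α⁻¹ ⟨u, hu.1⟩ : T) : Ω) ∈ normalizerIn R φ₀.range :=
      H93.centralizerIn_le_normalizerIn R _ (H93.mem_centralizerIn.2 ⟨hTR (Subtype.prop _), hu'⟩)
    have hbc : b ((α⁻¹ ⟨u, hu.1⟩ : T) : Ω) ∈ centralizerIn T W := H93.mem_centralizerIn.2
      ⟨((mor_inf hTD hb).map_mem ⟨hv, Subtype.prop _⟩).2,
        (H93.mem_centralizerIn.1 (hb.map_mem_centralizerIn hbW hU₀ hv hu')).2⟩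
    push Not at hcon
    obtain ⟨x, hx⟩ := (hb.mem_iff hbW hU₀ hv).1 (hcon _ hbc)
    have h3 : α ⟨φ₀ x, hT₀ x⟩ = ⟨u, hu.1⟩ := by
      rw [show (⟨φ₀ x, hT₀ x⟩ : T) = α⁻¹ ⟨u, hu.1⟩ from Subtype.ext hx]
      exact α.apply_symm_apply _
    rw [← hψr]
    exact ⟨x, (he x (hT₀ x)).trans (congrArg Subtype.val h3)⟩
  -- move it into the normalizer of `Q`
  obtain ⟨C, hC⟩ : ∃ C, C = centralizerIn T W := ⟨_, rfl⟩
  have hWR : W ≤ R := hWT.trans hTR
  have hCR : C ≤ R := hC ▸ inf_le_left.trans hTR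
  have hQR : Q ≤ R := hQN.trans inf_le_left
  have hCn : Q ≤ Subgroup.normalizer (C : Set Ω) := fun q hq => by
    have := H96.finite_of_le (hCR.trans hRS)
    refine H94.mem_normalizer_of_forall_conj_mem fun y hy => ?_
    rw [hC] at hy ⊢
    obtain ⟨hyT, hyW⟩ := H93.mem_centralizerIn.1 hy
    refine H93.mem_centralizerIn.2 ⟨H93.StronglyClosed.conj_mem hT (hRS (hQR hq)) hyT, fun w hw => ?_⟩
    have h1 := hyW _ (H93.mem_normalizerIn_conj (Subgroup.inv_mem _ (hQN hq)) hw)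
    rw [show q * y * q⁻¹ * w * (q * y * q⁻¹)⁻¹ = q * (y * (q⁻¹ * w * q⁻¹⁻¹) * y⁻¹) * q⁻¹ by group, h1]
    group
  have hcQ : c ∉ Q := fun h => hcW (hQW ▸ (⟨h, (H93.mem_centralizerIn.1 hc).1⟩ : c ∈ Q ⊓ T))
  have hlt : Q < Q ⊔ C := lt_of_le_of_ne le_sup_left fun e =>
    hcQ (e ▸ Subgroup.mem_sup_right (hC ▸ hc))
  have hQC : Q ⊔ C ≤ R := sup_le hQR hCR
  have := H96.finite_of_le (hQC.trans hRS)
  obtain ⟨s, hs, hsQ⟩ := Set.exists_of_ssubset
    (H93.lt_inf_normalizer (H93.isPGroup_of_le hS (hQC.trans hRS)) hlt)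
  have hs1 : s ∈ ((Q ⊔ C : Subgroup Ω) : Set Ω) := hs.1
  rw [Subgroup.coe_mul_of_left_le_normalizer_right Q C hCn] at hs1
  obtain ⟨q, hq, d, hd, rfl⟩ := hs1
  rw [hC] at hd
  obtain ⟨hdT, hdW⟩ := H93.mem_centralizerIn.1 hd
  have hdn : d ∈ normalizerIn R Q := by
    refine ⟨hTR hdT, ?_⟩
    have := Subgroup.mul_mem _ (Subgroup.inv_mem _ (Subgroup.le_normalizer hq)) hs.2
    simpa using this
  have hdQ : d ∉ Q := fun h => hsQ (Q.mul_mem hq h)
  have hQS : Q ≤ S := hQR.trans hRS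
  obtain ⟨α, hα⟩ : ∃ α, α = H93.conjAut R Q ⟨d, hdn⟩ := ⟨_, rfl⟩
  have hαv : ∀ x : Q, ((α x : Q) : Ω) = d * x * d⁻¹ := fun x => by rw [hα]; rfl
  have hαR : α ∈ autInducedBy R Q := H96.mem_autInducedBy.2 ⟨d, hdn.1, hαv⟩
  obtain ⟨K, hK⟩ : ∃ K, K = D.autGroup Q ⊓ congGroup T Q ⊓ fixGroup W Q := ⟨_, rfl⟩
  have hαK : α ∈ K := by
    rw [hK]
    refine ⟨⟨H93.autInducedBy_le_autGroup D hQR hαR, fun x => ?_⟩, fun x hx => Subtype.ext ?_⟩
    · rw [hαv, show (x : Ω)⁻¹ * (d * x * d⁻¹) = (x : Ω)⁻¹ * d * (x : Ω)⁻¹⁻¹ * d⁻¹ by group]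
      exact T.mul_mem (H93.StronglyClosed.conj_mem hT (S.inv_mem (hQS x.2)) hdT) (T.inv_mem hdT)
    · rw [hαv]
      exact hdW _ hx
  have hKop : K ≤ H93.opAut D p Q := by
    refine H93.le_opAut (hK ▸ inf_le_left.trans inf_le_left) ?_ ?_
    · intro e he b hb
      rw [hK] at he ⊢
      obtain ⟨g, hg, hge⟩ := H93.exists_mor_of_aut hQR hb
      have hgW : ∀ x : Q, ((b x : Q) : Ω) ∈ W ↔ (x : Ω) ∈ W := fun x => by
        rw [← hge, ← hQW]
        exact hg.mem_iff (mor_inf hTD hg) inf_le_left x.2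
      refine ⟨⟨Subgroup.mul_mem _ (Subgroup.mul_mem _ hb he.1.1) (Subgroup.inv_mem _ hb), fun x => ?_⟩, fun x hx => ?_⟩
      · obtain ⟨y, rfl⟩ := b.surjective x
        have h1 : ((y⁻¹ * e y : Q) : Ω) ∈ T := he.1.2 y
        have h2 := H93.StronglyClosed.aut_mem hT hQS
          ((H96.mem_autGroup F hQS).2 (isSubsystemOf (hRS := hRS) _ ((H96.mem_autGroup _ hQR).1 (hD ▸ hb)))) _ h1
        simpa using h2
      · obtain ⟨y, rfl⟩ := b.surjective x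
        simp only [MulAut.mul_apply, MulAut.inv_apply_self]
        rw [he.2 y ((hgW y).1 hx)]
    · refine isPGroup_stabilizer hS hQS (A := W) K (fun e he => by rw [hK] at he; exact he.2) fun e he x => ?_
      rw [hK] at he
      rw [← hQW]
      exact ⟨Q.mul_mem (Q.inv_mem x.2) (e x).2, he.1.2 x⟩
  have hinn := hle ⟨hαR, hKop hαK⟩
  rw [H93.inn_eq_autInducedBy, H96.mem_autInducedBy] at hinn
  obtain ⟨r, hr, hre⟩ := hinn
  have h3 : r⁻¹ * d ∈ centralizerIn R Q := by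
    refine H93.mem_centralizerIn.2 ⟨R.mul_mem (R.inv_mem (hQR hr)) hdn.1, fun y hy => ?_⟩
    have h4 := (hαv ⟨y, hy⟩).symm.trans (hre ⟨y, hy⟩)
    calc r⁻¹ * d * y * (r⁻¹ * d)⁻¹ = r⁻¹ * (d * y * d⁻¹) * r := by group
      _ = y := by rw [h4]; group
  have h5 := Q.mul_mem hr (hQ.2 Q (H93.isConj_refl D hQR) h3)
  rw [mul_inv_cancel_left] at h5
  exact hdQ h5

/-- The product is saturated. -/
theorem isSaturated (hS : IsPGroup p S) (hE : E.IsNormalIn F p) (hlift : Lift p F E) (hTR : T ≤ R)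
    (hback : ∀ (W : Subgroup Ω) (Λ : Local p F E R W), W ≤ T → Pullback hRS Λ) :
    (sys p F E R hRS).IsSaturated p := by
  have hI := hE.1.2.2
  have := H96.finite_of_le hRS
  refine H44.BigClimb.isSaturated_of_family_weight (hS.to_le hRS) (weight T R)
    (ℋ := {X | X ≤ R ∧ TCentric F T (X ⊓ T)}) (fun X Y h => weight_isConj hI h)
    (fun P Q h hQ => weight_lt hRS h hQ) ?_ ?_ ?_ ?_
  · rintro P ⟨-, hc⟩ Q hQ
    refine ⟨H93.isConj_le_right hQ, ?_⟩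
    obtain ⟨φ, hφ, hr⟩ := hQ
    obtain ⟨f, hf, -⟩ := H93.exists_mor hφ hr
    exact hc.of_mor hI.2.1 (mor_inf hI.2.1 (mor_toF hf))
  · rintro P ⟨hP, hc⟩ hov
    obtain ⟨W, hPW, hW⟩ := H93.exists_isFullyNormalized (sys p F E R hRS) ((inf_le_left : P ⊓ T ≤ P).trans hP)
    obtain ⟨φ, hφ, hr⟩ := id hPW
    obtain ⟨f, hf, -⟩ := H93.exists_mor hφ hr
    have hcW : TCentric F T W := hc.of_mor hI.2.1 (mor_toF hf)
    have hSat : SatBig (sys p F E R hRS) p (BigT T W) := fun X hX hXb =>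
      hov X hX (weight_lt_of_bigT hRS hP hf.card_eq.symm hXb)
    obtain ⟨Λ⟩ := exists_local hS hE hlift hTR hcW hW hSat
    exact sat_level hS hI hTR hcW hW hSat Λ (hback W Λ hcW.1) hP (H93.isConj_symm hPW)
  · intro X hX
    exact sys_le fun U a ha => hX U ⟨ha.le, ha.2.1⟩ ((H96.mem_autGroup _ ha.le).1 ha.mem_autGroup)
  · intro P hP hPH hov
    exact exists_not_inner hS hE hTR hP (fun h => hPH ⟨hP.1, h⟩) hov

end Cfsg.Agent.H94.Prod
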